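import Groth.Agent.CurvSt.K333.FamTw
import Groth.Agent.Cons9.K119.RelAmpInd
import Groth.Agent.Desc.AmpleDesc
import Groth.Agent.S1495

/-!
# Openness of the stable locus of a pointed family of curves

* `isStablePtd_iff`: a geometric fibre is stable iff its image lies in `Loc (StabProp n g) f σ hσ`;
* `isOpen_stable`: this set is open;
* `extDesc_stable`: descent along extensions of algebraically closed fields.
-/

set_option autoImplicit false
universe u
open CategoryTheory CategoryTheory.Limits AlgebraicGeometry TopologicalSpace Opposite IsLocalRing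

namespace K333.StableOpen

open Groth.Agent K901.Loci K901.SchLoc K901.SchPre K901.EtSch K901.GeomLoc K901.GeomFibAt

section Ample

open K119.RelAmpInd

/-- Relative ampleness and flat surjective base change, square form. -/
theorem isRelAmple_iff_bc {X Y X' Y' : Scheme.{u}} {f : X ⟶ Y} {f' : X' ⟶ Y'} {a : X' ⟶ X} {b : Y' ⟶ Y}
    (h : IsPullback a f' f b) [QuasiCompact b] [Flat b] [Surjective b] {L : X.Modules} (hL : PicF.IsInvertible L) :
    RelAmple.IsRelAmple f' ((Scheme.Modules.pullback a).obj L) ↔ RelAmple.IsRelAmple f L := by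
  refine ⟨fun H => ?_, fun H => isRelAmple_of_isPullback h H⟩
  refine Desc.AmpleDesc.isRelAmple_of_isRelAmple_baseChange f L hL b ?_
  have h1 : IsPullback h.isoPullback.inv (pullback.snd f b) f' (𝟙 Y') :=
    IsPullback.of_horiz_isIso ⟨by rw [h.isoPullback_inv_snd, Category.comp_id]⟩
  have h2 := isRelAmple_of_isPullback h1 H
  obtain ⟨e⟩ := nonempty_pullback_comp h.isoPullback_inv_fst L
  exact K30.AmpleLoc.isRelAmple_of_iso e h2

/-- Ampleness on a fibre over a field-valued point is ampleness on the fibre. -/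
theorem isAmple_iff_fibre {C T : Scheme.{u}} (f : C ⟶ T) {M : C.Modules} (hM : PicF.IsInvertible M)
    {Ω : Type u} [Field Ω] {t : Spec (CommRingCat.of Ω) ⟶ T} {X' : Scheme.{u}} {i : X' ⟶ C}
    {q : X' ⟶ Spec (CommRingCat.of Ω)} (hP : IsPullback i q f t) :
    CohB1.IsAmple ((Scheme.Modules.pullback i).obj M) ↔
      CohB1.IsAmple ((Scheme.Modules.pullback (f.fiberι (t.base (closedPoint Ω)))).obj M) := by
  obtain ⟨⟨s', φ⟩, rfl⟩ := (Scheme.SpecToEquivOfField Ω T).symm.surjective t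
  have hs : ((Scheme.SpecToEquivOfField Ω T).symm ⟨s', φ⟩).base (closedPoint Ω) = s' :=
    Scheme.fromSpecResidueField_apply s' ((Spec.map φ).base (closedPoint Ω))
  rw [hs]
  have h1 : IsPullback (f.fiberι s') (f.fiberToSpecResidueField s') f (T.fromSpecResidueField s') :=
    IsPullback.of_hasPullback _ _
  obtain ⟨p, hp, hpi⟩ := Flat2D.GeomFib.exists_isPullback_lift h1 hP (Spec.map φ) rfl
  obtain ⟨e⟩ := nonempty_pullback_comp hpi M
  have hfl : Flat (Spec.map φ) := inferInstance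
  have hsj : Surjective (Spec.map φ) := ⟨fun z => ⟨closedPoint Ω, Subsingleton.elim _ _⟩⟩
  have h2 := isRelAmple_iff_bc hp (L := (Scheme.Modules.pullback (f.fiberι s')).obj M)
    (PerfB.LimMod.isInvertible_pullback _ hM)
  rw [Ega2.RelAmp.isRelAmple_iff_isAmple, Ega2.RelAmp.isRelAmple_iff_isAmple] at h2
  rw [← h2]
  exact ⟨fun H => Ega2.Weight.isAmple_of_iso e.symm H, fun H => Ega2.Weight.isAmple_of_iso e H⟩

/-- The set of points with ample fibre is open. -/
theorem isOpen_ample {C T : Scheme.{u}} (f : C ⟶ T) [IsProper f] {M : C.Modules} (hM : PicF.IsInvertible M) :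
    IsOpen {s : T | CohB1.IsAmple ((Scheme.Modules.pullback (f.fiberι s)).obj M)} := by
  rw [isOpen_iff_forall_mem_open]
  intro s hs
  obtain ⟨V, hsV, hV⟩ := S1495.result f M hM s hs
  refine ⟨V, fun s' hs' => ?_, V.2, hsV⟩
  have h1 : IsPullback (f.fiberι s') (f.fiberToSpecResidueField s') f (T.fromSpecResidueField s') :=
    IsPullback.of_hasPullback _ _
  have h2 : IsPullback (f ⁻¹ᵁ V).ι (f ∣_ V) f V.ι := (isPullback_morphismRestrict f V).flip
  let k' : Spec (T.residueField s') ⟶ V := IsOpenImmersion.lift V.ι (T.fromSpecResidueField s') (by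
    rw [Scheme.Opens.range_ι, Scheme.range_fromSpecResidueField]
    simpa using hs')
  have hk : k' ≫ V.ι = T.fromSpecResidueField s' := IsOpenImmersion.lift_fac _ _ _
  let a : f.fiber s' ⟶ (f ⁻¹ᵁ V).toScheme := h2.lift (f.fiberι s') (f.fiberToSpecResidueField s' ≫ k')
    (by rw [Category.assoc, hk, h1.w])
  have ha : a ≫ (f ⁻¹ᵁ V).ι = f.fiberι s' := h2.lift_fst _ _ _
  have h3 : IsPullback a (f.fiberToSpecResidueField s') (f ∣_ V) k' := by
    refine IsPullback.of_right (h₁₂ := (f ⁻¹ᵁ V).ι) (v₁₃ := f) (h₂₂ := V.ι) ?_ (h2.lift_snd _ _ _) h2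
    rw [ha, hk]
    exact h1
  have h4 := isRelAmple_of_isPullback h3 hV
  rw [Ega2.RelAmp.isRelAmple_iff_isAmple] at h4
  obtain ⟨e⟩ := nonempty_pullback_comp ha M
  exact Ega2.Weight.isAmple_of_iso ((Scheme.Modules.pullback a).mapIso
    ((Scheme.Modules.restrictFunctorIsoPullback (f ⁻¹ᵁ V).ι).app M) ≪≫ e) h4

end Ample

/-- The condition "stable of genus `g`" on geometric fibres. -/
abbrev StabProp (n g : ℕ) : FibProp.{u} n := fun Ω _ _ X' q m => CurvSt.IsStablePtd Ω X' q g m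

/-- A fibre over a point of an open part comes from the open part. -/
theorem exists_factor {C T T' C' K X' : Scheme.{u}} {f : C ⟶ T} {u : T' ⟶ T} [IsOpenImmersion u] {f' : C' ⟶ T'}
    {v : C' ⟶ C} (hsq : IsPullback v f' f u) {t : K ⟶ T} (ht : Set.range t ⊆ Set.range u) {i : X' ⟶ C}
    {q : X' ⟶ K} (hP : IsPullback i q f t) :
    ∃ (t' : K ⟶ T') (i' : X' ⟶ C'), IsPullback i' q f' t' ∧ t' ≫ u = t ∧ i' ≫ v = i := by
  let t' : K ⟶ T' := IsOpenImmersion.lift u t ht
  have h1 : t' ≫ u = t := IsOpenImmersion.lift_fac _ _ _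
  let i' : X' ⟶ C' := hsq.lift i (q ≫ t') (by rw [Category.assoc, h1, hP.w])
  have h2 : i' ≫ v = i := hsq.lift_fst _ _ _
  refine ⟨t', i', ?_, h1, h2⟩
  refine IsPullback.of_right (h₁₂ := v) (v₁₃ := f) (h₂₂ := u) ?_ (hsq.lift_snd _ _ _) hsq
  rw [h1, h2]
  exact hP

section Sec

variable {C T T' : Scheme.{u}} (f : C ⟶ T) {n : ℕ} (σ : Fin n → (T ⟶ C)) (hσ : ∀ j, σ j ≫ f = 𝟙 T) (u : T' ⟶ T)

/-- Base change of sections. -/
noncomputable def bsec (j : Fin n) : T' ⟶ pullback f u :=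
  pullback.lift (u ≫ σ j) (𝟙 _) (by rw [Category.assoc, hσ, Category.comp_id, Category.id_comp])

theorem bsec_snd (j : Fin n) : bsec f σ hσ u j ≫ pullback.snd f u = 𝟙 _ := pullback.lift_snd _ _ _

theorem bsec_fst (j : Fin n) : bsec f σ hσ u j ≫ pullback.fst f u = u ≫ σ j := pullback.lift_fst _ _ _

/-- The marked points of a fibre of the base change. -/
theorem markedPt_bsec {Ω : Type u} [Field Ω] {t' : Spec (CommRingCat.of Ω) ⟶ T'} {X' : Scheme.{u}}
    {i' : X' ⟶ pullback f u} {q : X' ⟶ Spec (CommRingCat.of Ω)} (hP' : IsPullback i' q (pullback.snd f u) t')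
    {t : Spec (CommRingCat.of Ω) ⟶ T} {i : X' ⟶ C} (hP : IsPullback i q f t) (ht : t' ≫ u = t)
    (hi : i' ≫ pullback.fst f u = i) :
    CurvSt.markedPt (bsec f σ hσ u) (bsec_snd f σ hσ u) hP' = CurvSt.markedPt σ hσ hP := by
  funext j
  refine (markedPt_eq_of f σ hσ hP j (hP'.lift (t' ≫ bsec f σ hσ u j) (𝟙 _)
    (by rw [Category.assoc, bsec_snd, Category.comp_id, Category.id_comp])) ?_ (hP'.lift_snd _ _ _)).symm
  rw [← hi, ← Category.assoc, hP'.lift_fst, Category.assoc, bsec_fst, ← Category.assoc, ht]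

end Sec

section Main

variable {C T : Scheme.{u}} (f : C ⟶ T) [Flat f] [IsProper f] [LocallyOfFinitePresentation f] {n : ℕ}
  (σ : Fin n → (T ⟶ C)) (hσ : ∀ j, σ j ≫ f = 𝟙 T)

/-- The prestable locus. -/
abbrev preSet (g : ℕ) : Set T :=
  GenSet f g ∩ {s : T | Function.Injective fun j => σ j s} ∩ {s : T | ∀ j, SmoothAt f (σ j s)}

include hσ in
theorem isOpen_preSet (g : ℕ) : IsOpen (preSet f σ g) := by
  have h := isOpen_prestable f σ hσ g
  rwa [loc_prestable] at h

include hσ in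
theorem exists_nhd {g : ℕ} (hg : 3 ≤ 2 * g + n) (s : T) (hs : s ∈ preSet f σ g) :
    ∃ V W : T.Opens, s ∈ V ∧ ∀ (Ω : Type u) [Field Ω] [IsAlgClosed Ω] (t : Spec (CommRingCat.of Ω) ⟶ T),
      t.base (closedPoint Ω) ∈ V → ∀ (X' : Scheme.{u}) (i : X' ⟶ C) (q : X' ⟶ Spec (CommRingCat.of Ω))
      (hP : IsPullback i q f t), CurvSt.IsStablePtd Ω X' q g (CurvSt.markedPt σ hσ hP) ↔
        t.base (closedPoint Ω) ∈ W := by
  obtain ⟨V, hV, hsV, hVP⟩ := exists_isAffineOpen_mem_and_subset (x := s)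
    (U := ⟨preSet f σ g, isOpen_preSet f σ hσ g⟩) hs
  let u := hV.fromSpec
  have hru : Set.range u = V := hV.range_fromSpec
  have hsq : IsPullback (pullback.fst f u) (pullback.snd f u) f u := IsPullback.of_hasPullback f u
  have h1 : Flat (pullback.snd f u) := MorphismProperty.of_isPullback hsq inferInstance
  have h2 : LocallyOfFinitePresentation (pullback.snd f u) := MorphismProperty.of_isPullback hsq inferInstance
  have h3 : IsProper (pullback.snd f u) := MorphismProperty.of_isPullback hsq inferInstance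
  have hpre : ∀ s', s' ∈ preSet (pullback.snd f u) (bsec f σ hσ u) g := by
    intro s'
    obtain ⟨Ω, _, _, t', ht'⟩ := exists_geomPt s'
    have hP' := IsPullback.of_hasPullback (pullback.snd f u) t'
    have hP := hP'.paste_horiz hsq
    have h4 := markedPt_bsec f σ hσ u hP' hP rfl rfl
    have h5 := isPrestablePtd_iff (pullback.snd f u) (bsec f σ hσ u) (bsec_snd f σ hσ u) g hP'
    rw [h4, isPrestablePtd_iff f σ hσ g hP, ht'] at h5
    refine h5.1 (hVP ?_)
    change (t' ≫ u).base _ ∈ (V : Set T)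
    rw [← hru]
    exact ⟨t'.base (closedPoint Ω), rfl⟩
  obtain ⟨M, hM, H⟩ := FamTw.exists_twist (pullback.snd f u) (bsec f σ hσ u) (bsec_snd f σ hσ u) hg hpre
  let A : (Spec Γ(T, V)).Opens := ⟨_, isOpen_ample (pullback.snd f u) hM⟩
  refine ⟨V, u ''ᵁ A, hsV, fun Ω _ _ t ht X' i q hP => ?_⟩
  have hrt : Set.range t ⊆ Set.range u := by
    rintro _ ⟨z, rfl⟩
    have hz : z = closedPoint Ω := Subsingleton.elim _ _
    rw [hru, hz]
    exact ht
  obtain ⟨t', i', hP', rfl, hi⟩ := exists_factor hsq hrt hP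
  rw [← markedPt_bsec f σ hσ u hP' hP rfl hi, H Ω t' X' i' q hP', isAmple_iff_fibre (pullback.snd f u) hM hP']
  constructor
  · intro h
    exact ⟨t'.base (closedPoint Ω), h, rfl⟩
  · rintro ⟨z, hz, hzt⟩
    have h6 : z = t'.base (closedPoint Ω) := u.isOpenEmbedding.injective hzt
    rw [← h6]
    exact hz

/-- A geometric fibre is stable iff all geometric fibres over the same point are. -/
theorem isStablePtd_iff' {g : ℕ} (hg : 3 ≤ 2 * g + n) {Ω : Type u} [Field Ω] [IsAlgClosed Ω]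
    {t : Spec (CommRingCat.of Ω) ⟶ T} {X' : Scheme.{u}} {i : X' ⟶ C} {q : X' ⟶ Spec (CommRingCat.of Ω)}
    (hP : IsPullback i q f t) : CurvSt.IsStablePtd Ω X' q g (CurvSt.markedPt σ hσ hP) ↔
      t.base (closedPoint Ω) ∈ Loc (StabProp n g) f σ hσ := by
  constructor
  · intro h
    have hpre : t.base (closedPoint Ω) ∈ preSet f σ g :=
      (isPrestablePtd_iff f σ hσ g hP).1 ⟨h.1, h.2.1, h.2.2.1, h.2.2.2.1, h.2.2.2.2.1, h.2.2.2.2.2.1⟩
    obtain ⟨V, W, hV, H⟩ := exists_nhd f σ hσ hg _ hpre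
    have h1 := (H Ω t hV X' i q hP).1 h
    intro Ω' _ _ t' ht' X'' i' q' hP'
    refine (H Ω' t' ?_ X'' i' q' hP').2 ?_
    · rw [ht']
      exact hV
    · rw [ht']
      exact h1
  · intro h
    exact h Ω t rfl X' i q hP

theorem isOpen_stable' {g : ℕ} (hg : 3 ≤ 2 * g + n) : IsOpen (Loc (StabProp n g) f σ hσ) := by
  rw [isOpen_iff_forall_mem_open]
  intro s hs
  obtain ⟨Ω, _, _, t, ht⟩ := exists_geomPt s
  have h := hs Ω t ht _ _ _ (IsPullback.of_hasPullback f t)
  have hpre : t.base (closedPoint Ω) ∈ preSet f σ g :=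
    (isPrestablePtd_iff f σ hσ g (IsPullback.of_hasPullback f t)).1
      ⟨h.1, h.2.1, h.2.2.1, h.2.2.2.1, h.2.2.2.2.1, h.2.2.2.2.2.1⟩
  rw [ht] at hpre
  obtain ⟨V, W, hV, H⟩ := exists_nhd f σ hσ hg _ hpre
  have h1 := (H Ω t (by rw [ht]; exact hV) _ _ _ (IsPullback.of_hasPullback f t)).1 h
  rw [ht] at h1
  refine ⟨V ⊓ W, ?_, (V ⊓ W).2, ⟨hV, h1⟩⟩
  rintro s' ⟨hV', hW'⟩ Ω' _ _ t' ht' X' i' q' hP'
  refine (H Ω' t' ?_ X' i' q' hP').2 ?_
  · rw [ht']
    exact hV'
  · rw [ht']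
    exact hW'

/-- A geometric fibre is stable iff all geometric fibres over the same point are. -/
theorem isStablePtd_iff (g : ℕ) {Ω : Type u} [Field Ω] [IsAlgClosed Ω]
    {t : Spec (CommRingCat.of Ω) ⟶ T} {X' : Scheme.{u}} {i : X' ⟶ C} {q : X' ⟶ Spec (CommRingCat.of Ω)}
    (hP : IsPullback i q f t) : CurvSt.IsStablePtd Ω X' q g (CurvSt.markedPt σ hσ hP) ↔
      t.base (closedPoint Ω) ∈ Loc (StabProp n g) f σ hσ := by
  by_cases hg : 3 ≤ 2 * g + n
  · exact isStablePtd_iff' f σ hσ hg hP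
  · exact ⟨fun h => absurd h.2.2.2.2.2.2.2 hg, fun h => h Ω t rfl X' i q hP⟩

/-- **The stable locus of a pointed family of curves is open.** -/
theorem isOpen_stable (g : ℕ) : IsOpen (Loc (StabProp n g) f σ hσ) := by
  by_cases hg : 3 ≤ 2 * g + n
  · exact isOpen_stable' f σ hσ hg
  · have h1 : Loc (StabProp n g) f σ hσ = ∅ := by
      rw [Set.eq_empty_iff_forall_notMem]
      intro s hs
      obtain ⟨Ω, _, _, t, ht⟩ := exists_geomPt s
      exact hg (hs Ω t ht _ _ _ (IsPullback.of_hasPullback f t)).2.2.2.2.2.2.2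
    rw [h1]
    exact isOpen_empty

end Main

/-- Descent of stability along extensions of algebraically closed fields. -/
theorem extDesc_stable (n g : ℕ) : ExtDesc (StabProp.{u} n g) :=
  extDesc_of fun _ _ _ _ f σ hσ _ _ _ => ⟨_, fun _ _ _ _ _ _ _ hP => isStablePtd_iff f σ hσ g hP⟩

end K333.StableOpen
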