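import Groth.Agent.CurvSt.K901.SchPre
import Groth.Agent.Flat2G.ProperDim
import Groth.Agent.S0403
import Groth.Agent.S0404
import Groth.Agent.IntSh.K129.FibDim

/-!
# The loci of dimension one and of given Euler characteristic of a family of curves
-/

set_option autoImplicit false
universe u
open CategoryTheory CategoryTheory.Limits AlgebraicGeometry TopologicalSpace Opposite IsLocalRing

namespace K333.ArithLoc

open Groth.Agent K901.Loci K901.SchLoc K901.SchPre K901.EtSch K901.GeomLoc K901.GeomFibAt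

/-- The condition "of dimension one" on geometric fibres. -/
abbrev DimProp (n : ℕ) : FibProp.{u} n := fun _ _ _ X' _ _ => topologicalKrullDim ↥X' = 1

/-- The condition `χ(O) = 1 - g` on geometric fibres. -/
abbrev ArithProp (n : ℕ) (g : ℤ) : FibProp.{u} n := fun Ω _ _ X' q _ =>
  letI : X'.Over (Spec (CommRingCat.of Ω)) := ⟨q⟩
  Curv2.euler Ω X' (Coh.structureModule X') = 1 - g

theorem one_le_of_pos {d : WithBot ℕ∞} (h : 0 < d) : 1 ≤ d := by
  induction d using WithBot.recBotCoe with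
  | bot => exact absurd h (by simp)
  | coe a =>
    have h1 : (0 : ℕ∞) < a := WithBot.coe_lt_coe.1 h
    exact WithBot.coe_le_coe.2 (Order.one_le_iff_pos.2 h1)

section Fam

variable {C T : Scheme.{u}} (f : C ⟶ T) {n : ℕ} (σ : Fin n → (T ⟶ C)) (hσ : ∀ i, σ i ≫ f = 𝟙 T)

theorem dim_iff [IsProper f] {Ω : Type u} [Field Ω] {t : Spec (CommRingCat.of Ω) ⟶ T}
    {X' : Scheme.{u}} {i : X' ⟶ C} {q : X' ⟶ Spec (CommRingCat.of Ω)} (hP : IsPullback i q f t) :
    topologicalKrullDim ↥X' = 1 ↔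
      t.base (closedPoint Ω) ∈ {s : T | topologicalKrullDim ↥(f.fiber s) = 1} := by
  rw [Flat2G.ProperDim.topologicalKrullDim_field_point f (Field.toIsField Ω) q i t hP (closedPoint Ω)]
  rfl

theorem euler_eq [IsProper f] {Ω : Type u} [Field Ω] {t : Spec (CommRingCat.of Ω) ⟶ T}
    {X' : Scheme.{u}} {i : X' ⟶ C} {q : X' ⟶ Spec (CommRingCat.of Ω)} (hP : IsPullback i q f t) :
    (letI : X'.Over (Spec (CommRingCat.of Ω)) := ⟨q⟩
     Curv2.euler Ω X' (Coh.structureModule X')) =
      PerfAux.eulerChar f (Coh.structureModule C) (t.base (closedPoint Ω)) := by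
  letI : X'.Over (Spec (CommRingCat.of Ω)) := ⟨q⟩
  change Curv2.euler Ω X' (Coh.structureModule X') = _
  unfold Curv2.euler PerfAux.eulerChar
  refine finsum_congr fun j => ?_
  rw [Pi1.H536.GenusFam.finrank_eq_betti f Ω t (closedPoint Ω) i hP j]

theorem loc_dim [IsProper f] : Loc (DimProp n) f σ hσ = {s : T | topologicalKrullDim ↥(f.fiber s) = 1} := by
  ext s
  refine mem_loc_iff_of f σ hσ _ fun Ω _ _ t ht X' i q hP => ?_
  rw [← ht]
  exact dim_iff f hP

theorem isOpen_dim [Flat f] [IsProper f] [LocallyOfFinitePresentation f]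
    (h : ∀ x, FlatMor.fibreDimAt f x ≤ ((1 : ℕ) : WithBot ℕ∞)) : IsOpen (Loc (DimProp n) f σ hσ) := by
  rw [loc_dim]
  have h1 := S0404.result f 0
  have h2 : ∀ s : T, topologicalKrullDim ↥(f.fiber s) ≤ 1 := fun s =>
    (K129.FibDim.dim_fiber_le_iff f s _).2 fun u _ => h u
  convert h1 using 1
  ext s
  simp only [Set.mem_ofPred_eq]
  constructor
  · intro h3
    rw [h3]
    exact zero_lt_one
  · intro h3
    exact le_antisymm (h2 s) (one_le_of_pos h3)

theorem loc_arith [IsProper f] (g : ℤ) : Loc (ArithProp n g) f σ hσ =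
    {s : T | PerfAux.eulerChar f (Coh.structureModule C) s = 1 - g} := by
  ext s
  refine mem_loc_iff_of f σ hσ _ fun Ω _ _ t ht X' i q hP => ?_
  rw [← ht]
  change (letI : X'.Over (Spec (CommRingCat.of Ω)) := ⟨q⟩
     Curv2.euler Ω X' (Coh.structureModule X')) = 1 - g ↔ _
  rw [euler_eq f hP]
  rfl

theorem isOpen_arith [Flat f] [IsProper f] [LocallyOfFinitePresentation f] (g : ℤ) :
    IsOpen (Loc (ArithProp n g) f σ hσ) := by
  rw [loc_arith]
  exact (PerfB.Semi.isLocallyConstant_euler f (Coh.structureModule C)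
    (PerfB.StructFlat.isFP_structure) (PerfB.StructFlat.isFlatOver_structure f)).isOpen_fiber (1 - g)

end Fam

theorem extDesc_dim (n : ℕ) : ExtDesc (DimProp.{u} n) :=
  extDesc_of fun _ _ _ _ f _ _ _ _ _ => ⟨_, fun _ _ _ _ _ _ _ hP => dim_iff f hP⟩

theorem extDesc_arith (n : ℕ) (g : ℤ) : ExtDesc (ArithProp.{u} n g) :=
  extDesc_of fun Ω₀ _ _ C f _ _ _ _ _ => ⟨{s | PerfAux.eulerChar f (Coh.structureModule C) s = 1 - g},
    fun Ω _ _ t X' i q hP => by
      change (letI : X'.Over (Spec (CommRingCat.of Ω)) := ⟨q⟩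
        Curv2.euler Ω X' (Coh.structureModule X')) = 1 - g ↔ _
      rw [euler_eq f hP]
      rfl⟩

end K333.ArithLoc
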