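import Groth.Agent.CurvSt.K899.Ctr7
import Groth.Agent.Models.K380.Bir
import Groth.Agent.Ega3B.RpushAff

/-!
# Contractions: the frozen form of `O = c_* O`, `R^1 c_* O = 0` and their stability under base change

* `IsCtr.isIso_unitToPush`, `IsCtr.isZero_Rpush`;
* `IsCtr.final`: the last three clauses of S17201.
-/

set_option autoImplicit false
universe u
open CategoryTheory CategoryTheory.Limits AlgebraicGeometry TopologicalSpace Opposite

namespace K899.Ctr

variable {X Y C C' T : Scheme.{u}}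

theorem IsCtr.isIso_unitToPush {c : X ⟶ Y} (h : IsCtr c) : IsIso (ClSub.unitToPush c) :=
  K380.Bir.isIso_unitToPush c fun W => h.isIso_app W

theorem IsCtr.isZero_Rpush {c : X ⟶ Y} [QuasiCompact c] [QuasiSeparated c] [HasInjectiveResolutions X.Modules]
    (h : IsCtr c) (n : ℕ) : IsZero ((Coh.Rpush c (n + 1)).obj (Coh.structureModule X)) :=
  (Groth.Agent.Ega3B.RpushAff.isZero_iff c _ (Groth.Agent.Fdesc.StructMod.isQCoh_structureModule X) (n + 1)).2
    fun V hV => h.van V hV n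

/-- The last three clauses of S17201. -/
theorem IsCtr.final {c : C ⟶ C'} {g' : C' ⟶ T} [IsProper c] [Flat (c ≫ g')] [HasInjectiveResolutions C.Modules]
    (h : IsCtr c) : IsIso (ClSub.unitToPush c) ∧ IsZero ((Coh.Rpush c 1).obj (Coh.structureModule C)) ∧
      ∀ (T₀ C₀ D₀ : Scheme.{u}) (b : T₀ ⟶ T) (g₀ : D₀ ⟶ T₀) (c₀ : C₀ ⟶ D₀) (pD : D₀ ⟶ C') (pC : C₀ ⟶ C)
        [HasInjectiveResolutions C₀.Modules],
        IsPullback pD g₀ g' b → IsPullback pC c₀ c pD →
          IsIso (ClSub.unitToPush c₀) ∧ IsZero ((Coh.Rpush c₀ 1).obj (Coh.structureModule C₀)) := by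
  refine ⟨h.isIso_unitToPush, h.isZero_Rpush 0, fun T₀ C₀ D₀ b g₀ c₀ pD pC _ hY hX => ?_⟩
  have h0 : IsCtr c₀ := h.baseChange hY hX
  have hp : IsProper c₀ := MorphismProperty.of_isPullback (P := @IsProper) hX ‹_›
  exact ⟨h0.isIso_unitToPush, h0.isZero_Rpush 0⟩

end K899.Ctr
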