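import Groth.Agent.CurvSt.K310.ExistsCurve
import Groth.Agent.AbSch.K450.EulerTors
import Groth.Agent.Sga3C.DimTop
import Groth.Agent.CurvSt.K333.ArithLoc
import Groth.Agent.CurvSt.K899.NodalFib
import Groth.Agent.CurvSt.K903.GeomFib

/-!
# Curves of any arithmetic genus over algebraically closed fields
-/

set_option autoImplicit false
universe u
open CategoryTheory CategoryTheory.Limits AlgebraicGeometry TopologicalSpace Opposite IsLocalRing

namespace K333.CurvObj

open Groth.Agent CurvSt K901.SchLoc K901.SchPre K901.Loci K901.GeomFibAt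

section Mult

variable (k : Type u) [Field k] (m : ℕ)

/-- `m` rational points. -/
noncomputable abbrev pts : Scheme.{u} := Spec (CommRingCat.of (Fin m → k))

/-- The structure morphism of `m` rational points. -/
noncomputable abbrev ptsMap : pts k m ⟶ Spec (CommRingCat.of k) :=
  Spec.map (CommRingCat.ofHom (algebraMap k (Fin m → k)))

instance : IsFinite (ptsMap k m) := by
  rw [IsFinite.SpecMap_iff]
  exact (inferInstance : Module.Finite k (Fin m → k))

theorem nonempty_push_pts : Nonempty ((Scheme.Modules.pushforward (ptsMap k m)).obj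
    (Coh.structureModule (pts k m)) ≅ FlatMod.freeMod (Spec (CommRingCat.of k)) m) := by
  obtain ⟨r, e, h⟩ := K450.EulerTors.exists_rank_eq k (ptsMap k m)
  let x : ↥(Spec (CommRingCat.of k)) := (⊥ : PrimeSpectrum k)
  have hr : r = m := by
    rw [← h x]
    refine (Scheme.Hom.finrank_SpecMap_algebraMap k (Fin m → k) x).trans ?_
    rw [Module.rankAtStalk_eq_finrank_of_free, Module.finrank_fin_fun]
    rfl
  rwa [hr] at e

/-- One of the rational points. -/
noncomputable abbrev pt (j : Fin m) : Spec (CommRingCat.of k) ⟶ pts k m :=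
  Spec.map (CommRingCat.ofHom (Pi.evalRingHom (fun _ : Fin m => k) j))

theorem pt_comp (j : Fin m) : pt k m j ≫ ptsMap k m = 𝟙 _ := by
  rw [← Spec.map_comp, ← Spec.map_id]
  rfl

end Mult

section Euler

variable (k : Type u) [Field k]

/-- The Euler characteristic of `m` copies of a scheme. -/
theorem euler_mult (m : ℕ) {W W' : Scheme.{u}} [W.Over (Spec (CommRingCat.of k))]
    [IsProper (W ↘ Spec (CommRingCat.of k))] (a : W' ⟶ W) (b : W' ⟶ pts k m)
    (hW : IsPullback b a (ptsMap k m) (W ↘ Spec (CommRingCat.of k))) :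
    (letI : W'.Over (Spec (CommRingCat.of k)) := ⟨a ≫ (W ↘ Spec (CommRingCat.of k))⟩
     Curv2.euler k W' (Coh.structureModule W')) = m * Curv2.euler k W (Coh.structureModule W) := by
  have ha : IsFinite a := MorphismProperty.of_isPullback hW inferInstance
  let _ : W'.Over (Spec (CommRingCat.of k)) := ⟨a ≫ (W ↘ Spec (CommRingCat.of k))⟩
  have hW' : IsProper (W' ↘ (Spec (CommRingCat.of k))) :=
    inferInstanceAs (IsProper (a ≫ (W ↘ (Spec (CommRingCat.of k)))))
  have : Coh.IsQCoh (Coh.structureModule W) := CurvesC.UnitCoh.isQCoh_unit _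
  have : Coh.IsQCoh (Coh.structureModule W') := CurvesC.UnitCoh.isQCoh_unit _
  obtain ⟨e2⟩ := K450.EulerTors.unit_push_pull k (ptsMap k m) m (nonempty_push_pts k m)
    (W ↘ (Spec (CommRingCat.of k))) a b hW
  rw [Fga.HodgePush.euler_push k W W' a rfl (Coh.structureModule W') (CurvesC.UnitCoh.isCoh_unit _)
      (Fga.HodgePush.acyc_of_isAffineHom _ inferInstance),
    Fga.HodgePush.euler_congr k W e2, K450.EulerTors.euler_freeMod]

variable {k} [IsAlgClosed k]

/-- The Euler characteristic of a prestable curve of genus `g`. -/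
theorem euler_prestable {X : Scheme.{u}} (q : X ⟶ Spec (CommRingCat.of k)) {n g : ℕ} {m : Fin n → X}
    (h : StMap.IsPrestablePtd k X q g m) :
    (letI : X.Over (Spec (CommRingCat.of k)) := ⟨q⟩
     Curv2.euler k X (Coh.structureModule X)) = 1 - g := by
  have hq : IsProper q := h.1
  have hP : IsPullback (𝟙 X) q q (𝟙 (Spec (CommRingCat.of k))) := IsPullback.of_horiz_isIso ⟨by simp⟩
  have hlfp : LocallyOfFinitePresentation q := LocallyOfFinitePresentation.iff_locallyOfFiniteType.2 inferInstance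
  have h1 := (prestable_field_iff g q m (fun i => (h.2.2.2.2.2 i).1)).1 h
  rw [ArithLoc.euler_eq q hP, eulerChar_eq q hP h1.1 h1.2.1, h1.2.2.1]

end Euler

section Fam

variable {C T : Scheme.{u}} {f : C ⟶ T} {g n : ℕ}

theorem isPrestablePtdFam_of_isSmoothPtdFam (σ : Fin n → (T ⟶ C)) (hσ : ∀ i, σ i ≫ f = 𝟙 T)
    (h : CurvSt.IsSmoothPtdFam f σ g) : CurvSt.IsPrestablePtdFam f σ hσ g := by
  obtain ⟨⟨hsm, hpr, hirr, hfib⟩, hdis⟩ := h
  refine ⟨inferInstance, hpr, inferInstance, fun Ω _ _ t X i q hP => ?_⟩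
  obtain ⟨hd, hg⟩ := hfib Ω t X i q hP
  have hq : Smooth q := MorphismProperty.of_isPullback hP hsm
  have hqp : IsProper q := MorphismProperty.of_isPullback hP hpr
  have : IrreducibleSpace X :=
    GeometricallyIrreducible.geometrically_irreducibleSpace (f := f) _ _ _ hP
  have : IsReduced X := Flat2B.SmoothGeom.isReduced_of_smooth q
  have hlift : ∀ j, hP.lift (t ≫ σ j) (𝟙 _) (by rw [Category.assoc, hσ, Category.comp_id, Category.id_comp]) ≫ q
      = 𝟙 _ := fun j => hP.lift_snd _ _ _
  refine ⟨hqp, inferInstance, hd, ⟨Groth.Agent.Models.H112.NodalFam.atWorstNodal_of_smooth q, hg⟩, ?_, ?_⟩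
  · intro a b hab
    by_contra hne
    refine hdis a b hne (t.base (IsLocalRing.closedPoint Ω)) ?_
    have h1 := congrArg i.base hab
    have h2 : ∀ j, i.base (CurvSt.markedPt σ hσ hP j) = (σ j).base (t.base (IsLocalRing.closedPoint Ω)) := by
      intro j
      have := congrArg (fun φ => φ.base (IsLocalRing.closedPoint Ω)) (hP.lift_fst (t ≫ σ j) (𝟙 _)
        (by rw [Category.assoc, hσ, Category.comp_id, Category.id_comp]))
      exact this
    rw [← h2, ← h2, h1]
  · intro j
    refine ⟨?_, ⊤, trivial, inferInstance⟩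
    exact K310.ExistsCurve.isClosed_of_section q _ (hlift j)

end Fam

section Obj

variable {S : Scheme.{u}} {n : ℕ}

/-- A pointed curve over a field as a family. -/
noncomputable abbrev fieldFam {k : Type u} [Field k] (t : Spec (CommRingCat.of k) ⟶ S) {X : Scheme.{u}}
    (q : X ⟶ Spec (CommRingCat.of k)) (σ : Fin n → (Spec (CommRingCat.of k) ⟶ X)) (hσ : ∀ i, σ i ≫ q = 𝟙 _) :
    PtFamObj S n := ⟨Over.mk t, X, q, σ, hσ⟩

variable {k : Type u} [Field k] (t : Spec (CommRingCat.of k) ⟶ S) {X : Scheme.{u}}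
  (q : X ⟶ Spec (CommRingCat.of k)) (σ : Fin n → (Spec (CommRingCat.of k) ⟶ X)) (hσ : ∀ i, σ i ≫ q = 𝟙 _)

theorem base_apply_eq {Ω : Type u} [Field Ω] (s : Spec (CommRingCat.of Ω) ⟶ Spec (CommRingCat.of k)) :
    s.base (closedPoint Ω) = (𝟙 (Spec (CommRingCat.of k)) : _ ⟶ _).base (closedPoint k) := by
  have hS : Subsingleton (Spec (CommRingCat.of k)) := inferInstanceAs (Subsingleton (PrimeSpectrum k))
  exact Subsingleton.elim _ _

theorem isCurveFam_fieldFam [IsProper q] (h : topologicalKrullDim ↥X = 1) :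
    IsCurveFam ((toSpFam S n).obj (fieldFam t q σ hσ)) := by
  have hlfp : LocallyOfFinitePresentation q := LocallyOfFinitePresentation.iff_locallyOfFiniteType.2 inferInstance
  have hfl : Flat q := K450.EulerTors.flat_spec_field k q
  have hP : IsPullback (𝟙 X) q q (𝟙 (Spec (CommRingCat.of k))) := IsPullback.of_horiz_isIso ⟨by simp⟩
  refine K899.CurveFam.isCurveFam_toSpFam _ hfl inferInstance hlfp fun x => ?_
  refine (K284.TopDim.localDim_le_dim _).trans ?_
  have h1 := (ArithLoc.dim_iff q hP).1 h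
  have hS : Subsingleton (Spec (CommRingCat.of k)) := inferInstanceAs (Subsingleton (PrimeSpectrum k))
  have h2 : q x = (𝟙 (Spec (CommRingCat.of k)) : _ ⟶ _).base (closedPoint k) := Subsingleton.elim _ _
  change topologicalKrullDim ↥(q.fiber (q x)) ≤ 1
  rw [h2]
  exact h1.le

theorem geomFib_dim_fieldFam [IsProper q] (h : topologicalKrullDim ↥X = 1) :
    GeomFib (fun _ _ _ X' _ _ => topologicalKrullDim ↥X' = 1) ((toSpFam S n).obj (fieldFam t q σ hσ)) := by
  have hP : IsPullback (𝟙 X) q q (𝟙 (Spec (CommRingCat.of k))) := IsPullback.of_horiz_isIso ⟨by simp⟩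
  rw [K903.GeomFib.geomFib_toSpFam_iff]
  intro Ω _ _ s X' i p hP'
  refine (ArithLoc.dim_iff q hP').2 ?_
  rw [base_apply_eq]
  exact (ArithLoc.dim_iff q hP).1 h

theorem spHasArithGenus_fieldFam [IsProper q] {g : ℤ}
    (h : (letI : X.Over (Spec (CommRingCat.of k)) := ⟨q⟩
      Curv2.euler k X (Coh.structureModule X)) = 1 - g) :
    SpHasArithGenus ((toSpFam S n).obj (fieldFam t q σ hσ)) g := by
  have hP : IsPullback (𝟙 X) q q (𝟙 (Spec (CommRingCat.of k))) := IsPullback.of_horiz_isIso ⟨by simp⟩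
  unfold SpHasArithGenus
  rw [K903.GeomFib.geomFib_toSpFam_iff]
  intro Ω _ _ s X' i p hP'
  refine (ArithLoc.euler_eq q hP').trans ?_
  rw [base_apply_eq]
  exact (ArithLoc.euler_eq q hP).symm.trans h

end Obj

section Exist

variable (k : Type u) [Field k] [IsAlgClosed k]

/-- There is a pointed curve of every arithmetic genus. -/
theorem exists_curve (g : ℤ) (n : ℕ) :
    ∃ (X : Scheme.{u}) (q : X ⟶ Spec (CommRingCat.of k)) (σ : Fin n → (Spec (CommRingCat.of k) ⟶ X)),
      (∀ i, σ i ≫ q = 𝟙 _) ∧ IsProper q ∧ topologicalKrullDim ↥X = 1 ∧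
      (letI : X.Over (Spec (CommRingCat.of k)) := ⟨q⟩
       Curv2.euler k X (Coh.structureModule X)) = 1 - g := by
  rcases lt_or_ge g 0 with hg | hg
  · obtain ⟨W, p, σ, hc, hσ, hs⟩ := K310.ExistsCurve.exists_isSmoothPtdFam k 0 n
    have hpre := isPrestablePtdFam_of_isSmoothPtdFam σ hσ hs
    have hP : IsPullback (𝟙 W) p p (𝟙 (Spec (CommRingCat.of k))) := IsPullback.of_horiz_isIso ⟨by simp⟩
    have hp := hpre.2.2.2 k (𝟙 _) W (𝟙 W) p hP
    have hpr : IsProper p := hp.1
    let m : ℕ := (1 - g).toNat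
    have hm : (m : ℤ) = 1 - g := Int.toNat_of_nonneg (by omega)
    have hm0 : 0 < m := by omega
    let _ : W.Over (Spec (CommRingCat.of k)) := ⟨p⟩
    let b := pullback.fst (ptsMap k m) p
    let a := pullback.snd (ptsMap k m) p
    have hW : IsPullback b a (ptsMap k m) p := IsPullback.of_hasPullback _ _
    have ha : IsFinite a := MorphismProperty.of_isPullback hW inferInstance
    let j : Fin m := ⟨0, hm0⟩
    let s : W ⟶ pullback (ptsMap k m) p := hW.lift (p ≫ pt k m j) (𝟙 W) (by
      rw [Category.assoc, pt_comp, Category.comp_id, Category.id_comp])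
    have hs1 : s ≫ a = 𝟙 W := hW.lift_snd _ _ _
    have hsurj : Surjective a := ⟨fun w => ⟨s w, by rw [← Scheme.Hom.comp_apply, hs1]; rfl⟩⟩
    refine ⟨pullback (ptsMap k m) p, a ≫ p, fun i => σ i ≫ s, fun i => ?_, inferInstance, ?_, ?_⟩
    · rw [Category.assoc, ← Category.assoc s, hs1, Category.id_comp, hσ]
    · exact (Sga3C.DimTop.topologicalKrullDim_eq_of_isIntegralHom a).trans hp.2.2.1
    · have hWp : IsProper (W ↘ Spec (CommRingCat.of k)) := hpr
      have h1 := euler_mult k m a b hW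
      refine h1.trans ?_
      rw [euler_prestable p hp, hm]
      simp
  · obtain ⟨W, p, σ, hc, hσ, hs⟩ := K310.ExistsCurve.exists_isSmoothPtdFam k g.toNat n
    have hpre := isPrestablePtdFam_of_isSmoothPtdFam σ hσ hs
    have hP : IsPullback (𝟙 W) p p (𝟙 (Spec (CommRingCat.of k))) := IsPullback.of_horiz_isIso ⟨by simp⟩
    have hp := hpre.2.2.2 k (𝟙 _) W (𝟙 W) p hP
    refine ⟨W, p, σ, hσ, hp.1, hp.2.2.1, ?_⟩
    rw [euler_prestable p hp, Int.toNat_of_nonneg hg]

end Exist

end K333.CurvObj
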