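import Groth.Agent.CurvSt.K900.PtAmple
import Groth.Prelude.Def_StMap
import Groth.Agent.Sga5.AmpleFib
import Groth.Agent.PerfB.LimModInv

/-!
# Stability of a pointed nodal curve in terms of ampleness of the twisted dualizing module
-/

set_option autoImplicit false
universe u
open CategoryTheory CategoryTheory.Limits AlgebraicGeometry TopologicalSpace Opposite IsLocalRing

namespace K333.FieldStab

open Groth.Agent.Divis.CartierBasic Groth.Agent.Divis.CartierStalk Groth.Agent.CurvesC.TailGeom
open Groth.Agent.CurvesB Groth.Agent.CurvesC K326.StalkVan K326.PtsDiv K326.DegPts Groth.Agent K326.SemiStab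
open Groth.Agent.CurvesC.TailNum Groth.Agent.CurvesC.DegIso Groth.Agent.CurvesC.TailComp K900.PtAmple

attribute [local instance] subOver

variable (k : Type u) [Field k] [IsAlgClosed k] (X : Scheme.{u}) [X.Over (Spec (CommRingCat.of k))]
  [IsProper (X ↘ (Spec (CommRingCat.of k)))] [IsReduced X] [ConnectedSpace X]

/-- If the twisted dualizing module is ample then every component of genus zero has three special points. -/
theorem three_le_spec (hdim : topologicalKrullDim X = 1) (hX : Curv2.AtWorstNodal k X) {n : ℕ}
    {p : Fin n → X} (hp : Pts k n p) (w M : X.Modules) (hT : Tw k X hp w M) (hM : CohB1.IsAmple M)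
    (C : Set X) (hC : C ∈ irreducibleComponents (X : Type u))
    (h0 : Subsingleton (Coh.HH (compIdeal C hC).subscheme (Coh.structureModule (compIdeal C hC).subscheme) 1)) :
    3 ≤ spec X p C := by
  have hN : IsNoetherian X := CurveCoh.noetherianSpace k X
  have hd : topologicalKrullDim (compIdeal C hC).subscheme = 1 :=
    dim_comp X hC (TailMain.pure_of_connected X hdim C hC)
  have hirr := connected_comp C hC
  have hP : IsProper ((compIdeal C hC).subscheme ↘ Spec (CommRingCat.of k)) :=
    inferInstanceAs (IsProper ((compIdeal C hC).subschemeι ≫ (X ↘ (Spec (CommRingCat.of k)))))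
  have hi : AlgebraicGeometry.IsIntegral (compIdeal C hC).subscheme := Groth.Agent.CurvesC.CompGeom.isIntegral_C X C hC
  have h1 := deg_formula k X hdim hX hp w M hT (compIdeal C hC) hd
  have hL' : PicF.IsInvertible ((Scheme.Modules.pullback (compIdeal C hC).subschemeι).obj M) :=
    PerfB.LimMod.isInvertible_pullback _ hT.isInvertible
  have hA : CohB1.IsAmple ((Scheme.Modules.pullback (compIdeal C hC).subschemeι).obj M) :=
    Sga5.AmpleFib.isAmple_pullback _ hM
  have h2 := (Groth.Agent.S1530.result k (compIdeal C hC).subscheme hd _ hL').1 hA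
  rw [h1, coe_support_compIdeal] at h2
  have hg0 : Curv2.genus k (compIdeal C hC).subscheme = 0 := Module.finrank_zero_of_subsingleton
  rw [hg0] at h2
  change 0 < 2 * ((0 : ℕ) : ℤ) - 2 + (spec X p C : ℤ) at h2
  omega

/-- Stability of a prestable pointed curve is ampleness of the twisted dualizing module. -/
theorem isStablePtd_iff {n g : ℕ} (hgn : 3 ≤ 2 * g + n) {p : Fin n → X}
    (h : StMap.IsPrestablePtd k X (X ↘ (Spec (CommRingCat.of k))) g p) (hp : Pts k n p) (w M : X.Modules)
    (hT : Tw k X hp w M) :
    CurvSt.IsStablePtd k X (X ↘ (Spec (CommRingCat.of k))) g p ↔ CohB1.IsAmple M := by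
  constructor
  · intro h'
    exact isAmple_of_isStablePtd k X h' hp w M hT
  · intro hM
    have hN : IsNoetherian X := CurveCoh.noetherianSpace k X
    refine ⟨h.1, h.2.1, h.2.2.1, h.2.2.2.1, h.2.2.2.2.1, h.2.2.2.2.2, fun E hE => ?_, hgn⟩
    have hdim := h.2.2.1
    have hX : Curv2.AtWorstNodal k X := h.2.2.2.1.1
    have h0 := K896.TailBridge.h1_of_isSmRatComp k X E hE
    have h3 := three_le_spec k X hdim hX hp w M hT hM E hE.1 h0
    rw [spec_eq X p hE.1 (Groth.Agent.CurvesC.TailGeom.finite_inter hdim.le hE.1).1]
    exact_mod_cast h3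

end K333.FieldStab
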