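import Groth.Agent.CurvSt.K333.SecDiv
import Groth.Agent.CurvSt.K333.FieldStab
import Groth.Agent.CurvSt.K897.OmegaFam
import Groth.Agent.Ega3B.PullTensor
import Groth.Agent.Ega2.TensLift

/-!
# The twisted relative dualizing module of a prestable pointed family
-/

set_option autoImplicit false
universe u
open CategoryTheory CategoryTheory.Limits AlgebraicGeometry TopologicalSpace Opposite IsLocalRing
attribute [local instance] HasDerivedCategory.standard

namespace K333.FamTw

open Groth.Agent K901.Loci K901.SchLoc K901.SchPre K901.DualAff K682.RelDual K333.SecDiv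
open Groth.Agent.CurvesC K326.PtsDiv K326.SemiStab

section Pair

variable {k : Type u} [Field k] {X : Scheme.{u}} [X.Over (Spec (CommRingCat.of k))]

omit [X.Over (Spec (CommRingCat.of k))] in
theorem hmap_comp {F G H : X.Modules} (a : F ⟶ G) (b : G ⟶ H) (x : Coh.HH X F 1) :
    Sheaf.H.map ((SheafOfModules.toSheaf X.ringCatSheaf).map b) 1
      (Sheaf.H.map ((SheafOfModules.toSheaf X.ringCatSheaf).map a) 1 x) =
    Sheaf.H.map ((SheafOfModules.toSheaf X.ringCatSheaf).map (a ≫ b)) 1 x :=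
  (Sheaf.H.map_comp_apply ((SheafOfModules.toSheaf X.ringCatSheaf).map a)
    ((SheafOfModules.toSheaf X.ringCatSheaf).map b) x).symm.trans
    (congrArg (fun m => Sheaf.H.map m 1 x) ((SheafOfModules.toSheaf X.ringCatSheaf).map_comp a b).symm)

/-- Transport of dualizing pairs. -/
theorem isPair_of_iso {w L : X.Modules} (e : L ≅ w) {t : Coh.HH X w 1 →ₗ[k] k} (ht : DualCount.IsPair k t) :
    DualCount.IsPair k (t.comp (DualCount.hmapₗ k e.hom 1)) := by
  intro F hF ψ
  obtain ⟨φ, hφ, hu⟩ := ht F hF ψ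
  refine ⟨φ ≫ e.inv, fun x => ?_, fun φ' hφ' => ?_⟩
  · refine (hφ x).trans ?_
    have h1 : (φ ≫ e.inv) ≫ e.hom = φ := by rw [Category.assoc, e.inv_hom_id, Category.comp_id]
    refine (congrArg (fun ψ' : F ⟶ w => t (Sheaf.H.map ((SheafOfModules.toSheaf X.ringCatSheaf).map ψ') 1 x))
      h1.symm).trans ?_
    exact (congrArg t (hmap_comp (φ ≫ e.inv) e.hom x)).symm
  · have h1 : φ' ≫ e.hom = φ := hu _ fun x => (hφ' x).trans (congrArg t (hmap_comp φ' e.hom x))
    rw [← h1, Category.assoc, e.hom_inv_id, Category.comp_id]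

end Pair

/-- The relative dualizing module of a curve over a field gives a dualizing pair. -/
theorem exists_isPair {k : Type u} [Field k] {X : Scheme.{u}} [X.Over (Spec (CommRingCat.of k))]
    [IsProper (X ↘ Spec (CommRingCat.of k))] (hdim : topologicalKrullDim X = 1)
    [DCoh.HasRpush (X ↘ Spec (CommRingCat.of k))] {L : X.Modules}
    (h : IsRD (X ↘ Spec (CommRingCat.of k)) 1 L) : ∃ t : Coh.HH X L 1 →ₗ[k] k, DualCount.IsPair k t := by
  have hc1 : CompactSpace X := QuasiCompact.compactSpace_of_compactSpace (X ↘ Spec (CommRingCat.of k))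
  have hqs : QuasiSeparatedSpace X :=
    quasiSeparatedSpace_of_quasiSeparated (X ↘ Spec (CommRingCat.of k))
  have hf : DCoh.RpushPreservesQCoh (X ↘ Spec (CommRingCat.of k)) := fun K hK => S0998.result _ K hK
  have hNX' : IsNoetherian X := VarietyB.DegFin.isNoetherian_of_isProper k X
  have hs : DCoh.HasShriek (X ↘ Spec (CommRingCat.of k)) hf := S1766.result _ _ _ hf
  have hq : DCoh.IsQCohD (DCoh.inD (Spec (CommRingCat.of k)) (Coh.structureModule (Spec (CommRingCat.of k)))) :=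
    PerfA.QCohD.isQCohD_inD _ (Fdesc.StructMod.isQCoh_structureModule _)
  let OY : DCoh.DQCoh (Spec (CommRingCat.of k)) := ⟨DCoh.inD _ (Coh.structureModule _), hq⟩
  have hOY : Nonempty (OY.obj ≅ DCoh.inD (Spec (CommRingCat.of k))
      (Coh.structureModule (Spec (CommRingCat.of k)))) := ⟨Iso.refl _⟩
  obtain ⟨e⟩ := K682.RelDual.nonempty_iso_dualizingMod _ hf OY hOY h
  obtain ⟨t, ht⟩ := DualNodal.exists_isPair k hf OY hdim hOY
  exact ⟨_, isPair_of_iso e ht⟩

section Fam

theorem fibreDimAt_eq {C T : Scheme.{u}} (f : C ⟶ T) (hf : Curv2.IsNodalFamily f) (x : C) :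
    FlatMor.fibreDimAt f x = ((1 : ℕ) : WithBot ℕ∞) := by
  have hlfp : LocallyOfFinitePresentation f := hf.2.1
  have hft : LocallyOfFiniteType (f.fiberToSpecResidueField (f x)) := by
    have hpb : IsPullback (f.fiberι (f x)) (f.fiberToSpecResidueField (f x)) f (T.fromSpecResidueField (f x)) :=
      IsPullback.of_hasPullback _ _
    exact MorphismProperty.of_isPullback hpb inferInstance
  have hJ : JacobsonSpace (f.fiber (f x)) :=
    LocallyOfFiniteType.jacobsonSpace (f.fiberToSpecResidueField (f x))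
  exact Models.SmoothCase.localDim_eq_one (hf.2.2 (f x)).1 _

variable {A : Type u} [CommRing A] {C : Scheme.{u}} (f : C ⟶ Spec (CommRingCat.of A)) [Flat f] [IsProper f]
  [LocallyOfFinitePresentation f] {n : ℕ} (σ : Fin n → (Spec (CommRingCat.of A) ⟶ C)) (hσ : ∀ j, σ j ≫ f = 𝟙 _)

/-- Over an affine base, a prestable pointed family has an invertible module whose ampleness on the geometric fibres
is stability. -/
theorem exists_twist {g : ℕ} (hg : 3 ≤ 2 * g + n)
    (hpre : ∀ s, s ∈ GenSet f g ∩ {s | Function.Injective fun j => σ j s} ∩ {s | ∀ j, SmoothAt f (σ j s)}) :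
    ∃ M : C.Modules, PicF.IsInvertible M ∧ ∀ (Ω : Type u) [Field Ω] [IsAlgClosed Ω]
      (t : Spec (CommRingCat.of Ω) ⟶ Spec (CommRingCat.of A)) (X' : Scheme.{u}) (i : X' ⟶ C)
      (q : X' ⟶ Spec (CommRingCat.of Ω)) (hP : IsPullback i q f t),
      CurvSt.IsStablePtd Ω X' q g (CurvSt.markedPt σ hσ hP) ↔ CohB1.IsAmple ((Scheme.Modules.pullback i).obj M) := by
  have hnod : Curv2.IsNodalFamily f := (isNodalFamily_iff f).2 fun x => ((hpre (f x)).1.1.1.1 : f x ∈ NodSet f) x rfl
  have hgor : ∀ x, GorDim 1 f x := fun x => ⟨K897.OmegaFam.isGorensteinMor f hnod x, fibreDimAt_eq f hnod x⟩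
  have hr : DCoh.HasRpush f := Dcoh.DerSch.hasRpush f
  obtain ⟨w, hw, hRD⟩ := exists_isRD_affine f 1 hgor
  let U : C.Opens := ⟨{x | SmoothAt f x}, locusProp_smooth.isOpen f⟩
  have hU : SmoothOfRelativeDimension 1 (U.ι ≫ f) := by
    refine (K898.SmoothRel.smoothOfRelativeDimension_iff 1 _).2 fun x =>
      ⟨(locusProp_smooth.source U.ι f x).2 x.2,
        (K616.DimInv.fibreDimAt_comp_of_etale U.ι f x).trans (fibreDimAt_eq f hnod _)⟩
  have hD := isEff_prod Finset.univ (fun j => (σ j).ker) fun j =>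
    isEff_ker f (σ j) (hσ j) U (fun s => (hpre s).2 j)
  have hI := Dix.IdealModCartier.isInvertible_idealMod hD
  obtain ⟨N, hN, ⟨e⟩⟩ := Grpsch.PicGrp.exists_inverse hI
  refine ⟨CohB1.tensorMod w N, Fdesc.LocGen.isInvertible_tensorMod hw hN, fun Ω _ _ t X' i q hP => ?_⟩
  let _ : X'.Over (Spec (CommRingCat.of Ω)) := ⟨q⟩
  have hpre' : StMap.IsPrestablePtd Ω X' q g (CurvSt.markedPt σ hσ hP) :=
    (isPrestablePtd_iff f σ hσ g hP).2 (hpre _)
  have hPts : Pts Ω n (CurvSt.markedPt σ hσ hP) :=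
    ⟨hpre'.2.2.2.2.1, fun j => (hpre'.2.2.2.2.2 j).1, fun j => (hpre'.2.2.2.2.2 j).2⟩
  have hpr : IsProper (X' ↘ Spec (CommRingCat.of Ω)) := MorphismProperty.of_isPullback hP ‹_›
  have hred : IsReduced X' := GenusOne512.isReduced_of_atWorstNodal Ω X' hpre'.2.2.2.1.1
  have hcon : ConnectedSpace X' := hpre'.2.1
  have hc1 : CompactSpace X' := QuasiCompact.compactSpace_of_compactSpace (X' ↘ Spec (CommRingCat.of Ω))
  have hqs : QuasiSeparatedSpace X' := quasiSeparatedSpace_of_quasiSeparated (X' ↘ Spec (CommRingCat.of Ω))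
  have hc2 : CompactSpace C := QuasiCompact.compactSpace_of_compactSpace f
  have hqs2 : QuasiSeparatedSpace C := quasiSeparatedSpace_of_quasiSeparated f
  have hr' : DCoh.HasRpush (X' ↘ Spec (CommRingCat.of Ω)) := Dcoh.DerSch.hasRpush _
  have hb := IsRD.baseChange (f' := (X' ↘ Spec (CommRingCat.of Ω))) hP hw hRD
  have hcomap := comap_prod_ker f σ hσ hP hPts.inj hPts.cl
  have hD' : BlowUp.IsEffCartierIdeal ((∏ j, (σ j).ker).comap i) := by
    rw [hcomap]
    exact K900.PtAmple.isEff_pts Ω X' hpre'.2.2.1 hPts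
  obtain ⟨θ, -⟩ := K911.PullIdeal.exists_idealIso i hD hD'
  obtain ⟨u⟩ := Ega3B.PullTensor.nonempty_pullUnitIso i
  have hTw : Tw Ω X' hPts ((Scheme.Modules.pullback i).obj w)
      ((Scheme.Modules.pullback i).obj (CohB1.tensorMod w N)) := by
    refine ⟨PerfB.LimMod.isInvertible_pullback _ hw, exists_isPair hpre'.2.2.1 hb,
      (Scheme.Modules.pullback i).obj N, ?_, ⟨Ega3B.PullTensor.pullTensorIso i hw hN⟩⟩
    rw [← hcomap]
    exact ⟨Ega2.Tens.swap _ _ ≪≫ Ega2.Tens.mapTIso θ.symm (Iso.refl _) ≪≫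
      (Ega3B.PullTensor.pullTensorIso i hI hN).symm ≪≫ (Scheme.Modules.pullback i).mapIso e ≪≫ u⟩
  exact FieldStab.isStablePtd_iff Ω X' hg hpre' hPts _ _ hTw

end Fam

end K333.FamTw
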