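import Groth.Agent.CurvSt.K333.StableOpen
import Groth.Agent.CurvSt.K333.ArithLoc
import Groth.Agent.CurvSt.K902.EtSchFin
import Groth.Agent.CurvSt.K899.NodalLoc
import Groth.Agent.CurvSt.K901.OpenSub

/-!
# Open loci in the stack of all pointed curves, unconditionally

`K333.LocRows.openLocus_*`: stable, prestable, nodal, of dimension one, of given Euler characteristic.
-/

set_option autoImplicit false
universe v₂ u₂ u
open CategoryTheory CategoryTheory.Limits AlgebraicGeometry TopologicalSpace Opposite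

namespace K333.LocRows

open CurvSt K901.OpenSub K901.EtSch K901.GeomFibAt K901.SchLoc

section Gen

variable {S : Scheme.{u}} {𝒳 : BasedCategory.{v₂, u₂} (Over S)} {Q Q' : 𝒳.obj → Prop}

theorem openLocus_and (h : OpenLocus 𝒳 Q) (h' : OpenLocus 𝒳 Q') : OpenLocus 𝒳 (fun A => Q A ∧ Q' A) := by
  intro A
  obtain ⟨W, hW⟩ := h A
  obtain ⟨W', hW'⟩ := h' A
  refine ⟨W ⊓ W', fun B φ => ?_⟩
  have h1 := hW B φ
  have h2 := hW' B φ
  refine (and_congr h1 h2).trans ?_
  constructor
  · rintro ⟨h1, h2⟩ x hx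
    exact ⟨h1 hx, h2 hx⟩
  · intro h
    exact ⟨fun x hx => (h hx).1, fun x hx => (h hx).2⟩

theorem openLocus_sub (Q₀ : 𝒳.obj → Prop) (h : OpenLocus 𝒳 Q) :
    OpenLocus (AlgSt.fullSub 𝒳 Q₀) (fun A => Q A.obj) := fun A => by
  obtain ⟨W, hW⟩ := h A.obj
  exact ⟨W, fun B φ => hW B.obj φ.hom⟩

end Gen

variable (S : Scheme.{u}) (n : ℕ)

/-- A condition on geometric fibres with open locus for families of schemes has an open locus in the stack
of all pointed curves. -/
theorem openLocus_geomFib {P : FibProp.{u} n} (hD : ExtDesc P)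
    (H : ∀ {C T : Scheme.{u}} (f : C ⟶ T) (σ : Fin n → (T ⟶ C)) (hσ : ∀ i, σ i ≫ f = 𝟙 T) [Flat f] [IsProper f]
      [LocallyOfFinitePresentation f], (∀ x, FlatMor.fibreDimAt f x ≤ ((1 : ℕ) : WithBot ℕ∞)) →
        IsOpen (Loc P f σ hσ)) :
    OpenLocus (Curves S n) (fun A => GeomFib P A.obj) :=
  hasOpenLocus hD (fun A => K902.EtSchFin.etLocSch A.property) fun B h1 h2 h3 h4 => by
    rw [locus_toSpFam]
    exact H B.f B.sect B.sect_f h4

theorem openLocus_stable (g : ℕ) : OpenLocus (Curves S n) (fun A => SpIsStablePtd A.obj g) :=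
  openLocus_geomFib S n (StableOpen.extDesc_stable n g) fun f σ hσ _ _ _ _ => StableOpen.isOpen_stable f σ hσ g

theorem openLocus_prestable (g : ℕ) : OpenLocus (Curves S n) (fun A => SpIsPrestablePtd A.obj g) :=
  openLocus_geomFib S n (K901.SchPre.extDesc_prestable n g) fun f σ hσ _ _ _ _ =>
    K901.SchPre.isOpen_prestable f σ hσ g

theorem openLocus_dim : OpenLocus (Curves S n)
    (fun A => GeomFib (fun _ _ _ X' _ _ => topologicalKrullDim ↥X' = 1) A.obj) :=
  openLocus_geomFib S n (ArithLoc.extDesc_dim n) fun f σ hσ _ _ _ h => ArithLoc.isOpen_dim f σ hσ h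

theorem openLocus_arith (g : ℤ) : OpenLocus (Curves S n) (fun A => SpHasArithGenus A.obj g) :=
  openLocus_geomFib S n (ArithLoc.extDesc_arith n g) fun f σ hσ _ _ _ _ => ArithLoc.isOpen_arith f σ hσ g

theorem openLocus_nodal : OpenLocus (Curves S n) (fun A => AlgSp.LocP nodalFam A.obj.f) :=
  K899.LocCrit.hasOpenLocus K899.NodalLoc.openLoc_nodal S n

/-- The locus of curves of dimension one and arithmetic genus `g` is open. -/
theorem openLocus_mall (g : ℤ) : OpenLocus (Curves S n)
    (fun A => GeomFib (fun _ _ _ X' _ _ => topologicalKrullDim ↥X' = 1) A.obj ∧ SpHasArithGenus A.obj g) :=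
  openLocus_and (openLocus_dim S n) (openLocus_arith S n g)

end K333.LocRows
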