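import Groth.Agent.CurvSt.K333.PlanSt
import Groth.Agent.CurvSt.K333.StableOpen
import Groth.Agent.CurvSt.K896.Stabil
import Groth.Agent.CurvSt.K899.CtrL5

/-!
# Flat locally on the base a prestable pointed family has a stable contraction
-/

set_option autoImplicit false
universe u
open CategoryTheory CategoryTheory.Limits AlgebraicGeometry TopologicalSpace Opposite IsLocalRing

namespace K333.LocSt

open Groth.Agent CurvSt K901.SchLoc K901.SchPre K901.GeomLoc K333.StableOpen K333.PlanSt K899.Ctr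

/-- Restriction of a family whose fibres over the image of `u` are stable. -/
theorem isStableFam_bsec {C T T' : Scheme.{u}} (f : C ⟶ T) [Flat f] [IsProper f] [LocallyOfFinitePresentation f] {n : ℕ}
    (σ : Fin n → (T ⟶ C)) (hσ : ∀ j, σ j ≫ f = 𝟙 T) (g : ℕ) (u : T' ⟶ T)
    (h : ∀ t', u t' ∈ Loc (StabProp n g) f σ hσ) :
    IsStableFam (pullback.snd f u) (bsec f σ hσ u) (bsec_snd f σ hσ u) g := by
  have hsq : IsPullback (pullback.fst f u) (pullback.snd f u) f u := IsPullback.of_hasPullback f u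
  refine ⟨MorphismProperty.of_isPullback hsq inferInstance, MorphismProperty.of_isPullback hsq inferInstance,
    MorphismProperty.of_isPullback hsq inferInstance, fun Ω _ _ t' X i q hP' => ?_⟩
  have hP := hP'.paste_horiz hsq
  rw [markedPt_bsec f σ hσ u hP' hP rfl rfl, isStablePtd_iff f σ hσ g hP]
  exact h _

/-- Restriction of local contractions. -/
theorem locCtr_of {C T : Scheme.{u}} (f : C ⟶ T) {n g : ℕ} (σ : Fin n → (T ⟶ C)) {T' C' C₁ : Scheme.{u}} (b : T' ⟶ T)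
    [Flat b] [LocallyOfFinitePresentation b] (p : C' ⟶ C) (f' : C' ⟶ T') (sq : IsPullback p f' f b)
    (σ' : Fin n → (T' ⟶ C')) (γ : C' ⟶ C₁) (g₁ : C₁ ⟶ T') [Flat g₁] [IsProper g₁] [LocallyOfFinitePresentation g₁]
    (h1 : ∀ i, (σ' i ≫ γ) ≫ g₁ = 𝟙 T') (h2 : ∀ i, σ' i ≫ p = b ≫ σ i)
    (h4 : γ ≫ g₁ = f') [IsProper f'] [Flat f'] (h5 : IsCtr γ) (t' : T') (ht' : t' ∈ Loc (StabProp n g) g₁ (fun i => σ' i ≫ γ) h1) :
    LocCtr f σ g (b t') := by
  subst h4
  have hγ : IsProper γ := IsProper.of_comp γ g₁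
  let U : T'.Opens := ⟨_, isOpen_stable g₁ (fun i => σ' i ≫ γ) h1 g⟩
  let u := U.ι
  have hY : IsPullback (pullback.fst g₁ u) (pullback.snd g₁ u) g₁ u := IsPullback.of_hasPullback g₁ u
  have hX : IsPullback (pullback.fst γ (pullback.fst g₁ u)) (pullback.snd γ (pullback.fst g₁ u)) γ (pullback.fst g₁ u) :=
    IsPullback.of_hasPullback _ _
  let σ'' : Fin n → ((U : Scheme.{u}) ⟶ pullback γ (pullback.fst g₁ u)) := fun i =>
    hX.lift (u ≫ σ' i) (bsec g₁ (fun i => σ' i ≫ γ) h1 u i) (by rw [bsec_fst, Category.assoc])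
  have h6 : ∀ i, σ'' i ≫ pullback.snd γ (pullback.fst g₁ u) = bsec g₁ (fun i => σ' i ≫ γ) h1 u i :=
    fun i => hX.lift_snd _ _ _
  have h7 : (fun i => σ'' i ≫ pullback.snd γ (pullback.fst g₁ u)) = bsec g₁ (fun i => σ' i ≫ γ) h1 u := funext h6
  refine ⟨U, pullback γ (pullback.fst g₁ u), pullback g₁ u, u ≫ b, inferInstance, inferInstance, ⟨t', ht'⟩,
    pullback.fst γ (pullback.fst g₁ u) ≫ p, pullback.snd γ (pullback.fst g₁ u) ≫ pullback.snd g₁ u,
    (hX.paste_vert hY).paste_horiz sq, σ'', pullback.snd γ (pullback.fst g₁ u), pullback.snd g₁ u,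
    fun i => by rw [h6, bsec_snd], rfl, fun i => ?_, fun i => ?_, rfl, h5.baseChange hY hX, ?_⟩
  · rw [← Category.assoc, hX.lift_fst, Category.assoc, h2, Category.assoc]
  · rw [← Category.assoc, h6, bsec_snd]
  · have h8 := isStableFam_bsec g₁ (fun i => σ' i ≫ γ) h1 g u (fun t => t.2)
    simp only [h6]
    exact h8

theorem isReduced_of_stable {k : Type u} [Field k] [IsAlgClosed k] {Y : Scheme.{u}} {q : Y ⟶ Spec (CommRingCat.of k)}
    {g n : ℕ} {y : Fin n → Y} (h : IsStablePtd k Y q g y) : IsReduced Y := by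
  obtain ⟨h1, h2, h3, ⟨h4, -⟩, -⟩ := h
  have hN : IsNoetherian Y := CurvesB.NodalFibreH.isNoetherian_of_isProper k Y q
  let _ : Y.Over (Spec (CommRingCat.of k)) := ⟨q⟩
  have hlft : LocallyOfFiniteType (Y ↘ Spec (CommRingCat.of k)) := inferInstanceAs (LocallyOfFiniteType q)
  have h5 : GeometricallyReduced q := (S1589.result k Y (fun Z hZ => CurvesC.TailMain.pure_of_connected Y h3 Z hZ) h4).2
  exact h5.geometrically_isReduced (𝟙 _) (𝟙 _) q (IsPullback.of_horiz_isIso ⟨by simp⟩)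

theorem locStmt : LocStmt.{u} := by
  intro C T f n g σ hσ hpre hg t
  obtain ⟨i1, i2, i3, hpre'⟩ := hpre
  obtain ⟨Ω, _, _, τ, rfl⟩ := exists_geomPt t
  have sq : IsPullback (pullback.fst f τ) (pullback.snd f τ) f τ := IsPullback.of_hasPullback f τ
  obtain ⟨p1, p2, p3, ⟨p4, p5⟩, p6, p7⟩ := hpre' Ω τ _ _ _ sq
  obtain ⟨Y, qY, c, hcq, hst, hcon⟩ := K896.Stabil.main Ω (pullback.snd f τ) g n (markedPt σ hσ sq)
    ⟨p1, p2, p3, p4, p5, p6, fun i => (p7 i).1, fun i => (p7 i).2⟩ hg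
  have hY : IsProper qY := hst.1
  have hYr : IsReduced Y := isReduced_of_stable hst
  obtain ⟨T', C', C₁, b, p, f', g₁, γ, τ', i', e, hb1, hb2, h1, sqb, h2, h3, j1, j2, j3, hγ, sqe, sqi⟩ :=
    exists_local f τ sq (IsCtr.of_isCon hcon) hcq p3.le hst.2.2.1.le
  have hf1 : IsProper f' := MorphismProperty.of_isPullback sqb inferInstance
  have hf2 : Flat f' := MorphismProperty.of_isPullback sqb inferInstance
  let σ' : Fin n → (T' ⟶ C') := fun i => sqb.lift (b ≫ σ i) (𝟙 _) (by rw [Category.assoc, hσ]; simp)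
  have h4 : ∀ i, σ' i ≫ p = b ≫ σ i := fun i => sqb.lift_fst _ _ _
  have h5 : ∀ i, σ' i ≫ f' = 𝟙 _ := fun i => sqb.lift_snd _ _ _
  have h6 : ∀ i, (σ' i ≫ γ) ≫ g₁ = 𝟙 T' := fun i => by rw [Category.assoc, h3, h5]
  have h7 : markedPt (fun i => σ' i ≫ γ) h6 sqe = fun i => c.base (markedPt σ hσ sq i) := by
    funext i
    let x : Spec (CommRingCat.of Ω) ⟶ pullback f τ := sq.lift (τ ≫ σ i) (𝟙 _)
      (by rw [Category.assoc, hσ, Category.comp_id, Category.id_comp])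
    have hx1 : x ≫ pullback.fst f τ = τ ≫ σ i := sq.lift_fst _ _ _
    have hx2 : x ≫ pullback.snd f τ = 𝟙 _ := sq.lift_snd _ _ _
    have hx3 : x ≫ i' = τ' ≫ σ' i := by
      apply sqb.hom_ext
      · rw [Category.assoc, h2, hx1, Category.assoc, h4, reassoc_of% h1]
      · rw [Category.assoc, Category.assoc, h5, Category.comp_id, ← h3, reassoc_of% sqi.w, sqe.w, reassoc_of% hcq,
          reassoc_of% hx2]
    rw [markedPt_eq_of g₁ (fun i => σ' i ≫ γ) h6 sqe i (x ≫ c)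
      (by rw [Category.assoc, ← sqi.w, reassoc_of% hx3]) (by rw [Category.assoc, hcq, hx2])]
    rfl
  have h8 : τ'.base (closedPoint Ω) ∈ Loc (StabProp n g) g₁ (fun i => σ' i ≫ γ) h6 := by
    rw [← isStablePtd_iff g₁ (fun i => σ' i ≫ γ) h6 g sqe, h7]
    exact hst
  have h9 := locCtr_of f σ b p f' sqb σ' γ g₁ h6 h4 h3 hγ _ h8
  have h10 : b (τ'.base (closedPoint Ω)) = τ.base (closedPoint Ω) := by
    rw [← h1]
    rfl
  rwa [h10] at h9

end K333.LocSt
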