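import Groth.Agent.CurvSt.K333.MallObj
import Groth.Agent.CurvSt.K333.LocRows
import Groth.Agent.CurvSt.K740.CurvAlgFin
import Groth.Agent.CurvSt.K902.SelfChart
import Groth.Agent.AlgSt.K735.DvrMain

/-!
# Algebraicity of the stack of all pointed curves of given arithmetic genus
-/

set_option autoImplicit false
universe u
open CategoryTheory CategoryTheory.Limits AlgebraicGeometry TopologicalSpace Opposite

namespace K333.MallAlg

open Groth.Agent CurvSt K901.OpenSub K333.CurvObj

variable (S : Scheme.{u}) (n : ℕ) (g : ℤ)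

/-- The stack of all pointed curves is algebraic for the etale topology. -/
theorem isAlgStack_curves_etale : AlgSt.IsAlgStack Scheme.etalePrecoverage (Curves S n) :=
  K735.DvrMain.isAlgStack_et_of_fppf (K740.CurvAlg.isAlgStack_curves S n)

/-- The stack of all pointed curves of arithmetic genus `g` is an open substack. -/
theorem isOpenSubstack_mall :
    AlgSt.IsOpenSubstack (Curves S n) (Mall S n g) Scheme.etalePrecoverage :=
  isOpenSubstack_etale (isAlgStack_curves_etale S n) (LocRows.openLocus_mall S n g)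

theorem isAlgStack_mall : AlgSt.IsAlgStack Scheme.etalePrecoverage (AlgSt.fullSub (Curves S n) (Mall S n g)) :=
  (isOpenSubstack_mall S n g).2.1

/-- An open substack of the stack of curves is locally of finite presentation. -/
theorem exists_atlas {Q : (Curves S n).obj → Prop} (hQ : OpenLocus (Curves S n) Q) :
    ∃ (U : Over S) (x : FibCat.overCat U ⥤ᵇ AlgSt.fullSub (Curves S n) Q), LocallyOfFinitePresentation U.hom ∧
      AlgSt.RepByAlgSpWith (AlgSp.LocP @Smooth) x ∧ AlgSt.RepByAlgSpWith AlgSp.IsSurjectiveMor x := by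
  obtain ⟨U, x, h1, h2, h3⟩ := K740.CurvAlg.exists_atlas_curves S n
  obtain ⟨W, hW⟩ := hQ.chart x
  refine ⟨opObj W, liftChart x W hW, ?_, repByAlgSpWith_liftChart hQ.stable x W hW _ h2,
    repByAlgSpWith_liftChart hQ.stable x W hW _ h3⟩
  change LocallyOfFinitePresentation (W.ι ≫ U.hom)
  infer_instance

theorem locQ_lfp {Q : (Curves S n).obj → Prop} (hQ : OpenLocus (Curves S n) Q) :
    AlgSt.LocQ (AlgSp.LocP @LocallyOfFinitePresentation) (FibCat.toSelf (AlgSt.fullSub (Curves S n) Q)) := by
  obtain ⟨U, x, h1, h2, h3⟩ := exists_atlas S n hQ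
  exact K902.SelfChart.locQ_toSelf x h2 h3 (K899.CurveFam.locP_lfp _ h1)

theorem locQ_lft {Q : (Curves S n).obj → Prop} (hQ : OpenLocus (Curves S n) Q) :
    AlgSt.LocQ (AlgSp.LocP @LocallyOfFiniteType) (FibCat.toSelf (AlgSt.fullSub (Curves S n) Q)) := by
  obtain ⟨U, x, h1, h2, h3⟩ := exists_atlas S n hQ
  exact K902.SelfChart.locQ_toSelf x h2 h3
    (K899.CurveFam.locP_lft _ (inferInstanceAs (LocallyOfFiniteType U.hom)))

end K333.MallAlg
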