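import Groth.Agent.CurvSt.K333.CurvObj

/-!
# Objects of the stack of all pointed curves of given arithmetic genus
-/

set_option autoImplicit false
universe u
open CategoryTheory CategoryTheory.Limits AlgebraicGeometry TopologicalSpace Opposite IsLocalRing

namespace K333.CurvObj

open Groth.Agent CurvSt K901.SchLoc K901.SchPre K901.Loci K901.GeomFibAt

variable {S : Scheme.{u}} {n : ℕ}

/-- The condition "of dimension one and of arithmetic genus `g`". -/
abbrev Mall (S : Scheme.{u}) (n : ℕ) (g : ℤ) : (Curves S n).obj → Prop :=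
  fun A => GeomFib (fun _ _ _ X' _ _ => topologicalKrullDim ↥X' = 1) A.obj ∧ SpHasArithGenus A.obj g

section Field

variable {k : Type u} [Field k] [IsAlgClosed k] (t : Spec (CommRingCat.of k) ⟶ S)

/-- Pointed curves of every arithmetic genus exist. -/
theorem nonempty_fiber_mall (g : ℤ) : Nonempty ((AlgSt.fullSub (Curves S n) (Mall S n g)).p.Fiber (Over.mk t)) := by
  obtain ⟨X, q, σ, hσ, hq, hd, he⟩ := exists_curve k g n
  exact ⟨⟨⟨⟨(toSpFam S n).obj (fieldFam t q σ hσ), isCurveFam_fieldFam t q σ hσ hd⟩,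
    geomFib_dim_fieldFam t q σ hσ hd, spHasArithGenus_fieldFam t q σ hσ he⟩, rfl⟩⟩

theorem isPrestablePtd_of_isSmoothPtdFam {X : Scheme.{u}} (q : X ⟶ Spec (CommRingCat.of k))
    (σ : Fin n → (Spec (CommRingCat.of k) ⟶ X)) (hσ : ∀ i, σ i ≫ q = 𝟙 _) {g : ℕ}
    (h : IsSmoothPtdFam q σ g) : ∃ m : Fin n → X, StMap.IsPrestablePtd k X q g m := by
  have hP : IsPullback (𝟙 X) q q (𝟙 (Spec (CommRingCat.of k))) := IsPullback.of_horiz_isIso ⟨by simp⟩
  exact ⟨_, (isPrestablePtdFam_of_isSmoothPtdFam σ hσ h).2.2.2 k (𝟙 _) X (𝟙 X) q hP⟩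

/-- Objects given by smooth pointed curves. -/
theorem nonempty_fiber_of_smooth (g : ℕ) (Q : (Curves S n).obj → Prop)
    (hQ : ∀ {X : Scheme.{u}} (q : X ⟶ Spec (CommRingCat.of k)) (σ : Fin n → (Spec (CommRingCat.of k) ⟶ X))
      (hσ : ∀ i, σ i ≫ q = 𝟙 _) (_ : IsSmoothPtdFam q σ g)
      (hc : IsCurveFam ((toSpFam S n).obj (fieldFam t q σ hσ))), Q ⟨_, hc⟩) :
    Nonempty ((AlgSt.fullSub (AlgSt.fullSub (Curves S n) (Mall S n g)) (fun A => Q A.obj)).p.Fiber
      (Over.mk t)) := by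
  obtain ⟨X, q, σ, -, hσ, h⟩ := K310.ExistsCurve.exists_isSmoothPtdFam k g n
  obtain ⟨m, hm⟩ := isPrestablePtd_of_isSmoothPtdFam q σ hσ h
  have hq : IsProper q := hm.1
  have hc := isCurveFam_fieldFam t q σ hσ hm.2.2.1
  exact ⟨⟨⟨⟨⟨(toSpFam S n).obj (fieldFam t q σ hσ), hc⟩,
    geomFib_dim_fieldFam t q σ hσ hm.2.2.1, spHasArithGenus_fieldFam t q σ hσ (euler_prestable q hm)⟩,
    hQ q σ hσ h hc⟩, rfl⟩⟩

theorem nonempty_fiber_stable (g : ℕ) (hgn : 3 ≤ 2 * g + n) :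
    Nonempty ((AlgSt.fullSub (AlgSt.fullSub (Curves S n) (Mall S n g)) (fun A => SpIsStablePtd A.obj.obj g)).p.Fiber
      (Over.mk t)) :=
  nonempty_fiber_of_smooth t g (fun A => SpIsStablePtd A.obj g) fun _ σ hσ h _ =>
    (K903.GeomFib.geomFib_toSpFam_iff _ _).2
      (K310.ExistsCurve.isStableFam_of_isSmoothPtdFam σ hσ h hgn).2.2.2

theorem nonempty_fiber_prestable (g : ℕ) :
    Nonempty ((AlgSt.fullSub (AlgSt.fullSub (Curves S n) (Mall S n g)) (fun A => SpIsPrestablePtd A.obj.obj g)).p.Fiber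
      (Over.mk t)) :=
  nonempty_fiber_of_smooth t g (fun A => SpIsPrestablePtd A.obj g) fun _ σ hσ h _ =>
    (K903.GeomFib.geomFib_toSpFam_iff _ _).2 (isPrestablePtdFam_of_isSmoothPtdFam σ hσ h).2.2.2

theorem nonempty_fiber_nodal (g : ℕ) :
    Nonempty ((AlgSt.fullSub (AlgSt.fullSub (Curves S n) (Mall S n g)) (fun A => AlgSp.LocP nodalFam A.obj.obj.f)).p.Fiber
      (Over.mk t)) :=
  nonempty_fiber_of_smooth t g (fun A => AlgSp.LocP nodalFam A.obj.f) fun q σ hσ h _ => by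
    obtain ⟨m, hm⟩ := isPrestablePtd_of_isSmoothPtdFam q σ hσ h
    have hq : IsProper q := hm.1
    have hfl : Flat q := K450.EulerTors.flat_spec_field k q
    have hlfp : LocallyOfFinitePresentation q :=
      LocallyOfFinitePresentation.iff_locallyOfFiniteType.2 inferInstance
    refine K899.NodalFib.locP_nodal (fieldFam t q σ hσ).fOver ?_
    exact (isNodalFamily_iff q).2 ((prestable_field_iff g q m (fun i => (hm.2.2.2.2.2 i).1)).1 hm).1

end Field

end K333.CurvObj
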