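import Groth.Agent.S8916
import Groth.Agent.S1535
import Groth.Agent.S1170
import Groth.Agent.Ega2.RegLow
import Groth.Agent.Ega3A.FiberRank
import Groth.Agent.Synt.K563.NodFwd
import Groth.Agent.W4c1frobunstiva.K811.SingSmooth
import Groth.Agent.CurvesB.NodeCriterion
import Groth.Agent.CurvSt.K896.RatComp
import Groth.Agent.CurvSt.K901.SchPre
import Groth.Agent.Sga7.H734.NodalBC
import Groth.Agent.CurvSt.K333.StableOpen

/-!
# The number of nodes of the geometric fibres of a nodal family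

* `not_smoothAt_of_isNode`, `isNode_iff` : the nodes of a fibre are the points at which the family is not smooth;
* `card_eq`: their number is the dimension of the fibre of the algebra of the singular locus;
* `exists_open_affine`, `exists_nhd`: the locus with fewer than `m` nodes is open.
-/

set_option autoImplicit false
universe u
open CategoryTheory CategoryTheory.Limits AlgebraicGeometry TopologicalSpace IsLocalRing TensorProduct

namespace K333.NodeCount

open Groth.Agent K901.Loci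

/-- A node of a curve is not a smooth point. -/
theorem not_smoothAt_of_isNode {k : Type u} [Field k] {X : Scheme.{u}} (q : X ⟶ Spec (CommRingCat.of k))
    [LocallyOfFiniteType q] (hdim : topologicalKrullDim X ≤ 1) {x : X} (h : @Curv2.IsNode k _ X ⟨q⟩ x) :
    ¬ SmoothAt q x := by
  rintro ⟨U, hx, hU⟩
  let _ : X.Over (Spec (CommRingCat.of k)) := ⟨q⟩
  have hlft : LocallyOfFiniteType (X ↘ Spec (CommRingCat.of k)) := ‹LocallyOfFiniteType q›
  have h1 := (CurvesB.Node.isNode_iff k X x).1 h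
  let _ : U.toScheme.Over (Spec (CommRingCat.of k)) := ⟨U.ι ≫ q⟩
  have hU' : Smooth (U.toScheme ↘ Spec (CommRingCat.of k)) := hU
  have h2 := S1535.result k U.toScheme ⟨x, hx⟩
  have h3 : IsRegularLocalRing (X.presheaf.stalk x) :=
    IsRegularLocalRing.of_ringEquiv (U.stalkIso ⟨x, hx⟩).commRingCatIsoToRingEquiv
  have h4 := (Ega2.RegLow.isDomain_and_isPrincipal _ ((S1170.ringKrullDim_stalk_le X x).trans hdim)).2
  exact h1.2.not_principal 1 le_rfl (by rwa [pow_one])

section Sing

variable {C T : Scheme.{u}} (f : C ⟶ T)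

/-- The singular locus. -/
noncomputable def sing [QuasiSeparated f] : Scheme.{u} := (Fitt.sheafIdeal (Omega.sheaf f) 1).subscheme

noncomputable def singι [QuasiSeparated f] : sing f ⟶ C := (Fitt.sheafIdeal (Omega.sheaf f) 1).subschemeι

instance [QuasiSeparated f] : IsClosedImmersion (singι f) :=
  inferInstanceAs (IsClosedImmersion (Fitt.sheafIdeal (Omega.sheaf f) 1).subschemeι)

variable {f}

theorem range_singι [QuasiSeparated f] (hf : Curv2.IsNodalFamily f) (x : C) :
    x ∈ Set.range (singι f) ↔ ¬ SmoothAt f x := by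
  have h1 : Flat f := hf.1
  have h2 : LocallyOfFinitePresentation f := hf.2.1
  have h3 := S8916.result f 1 (fun s T hT => (hf.2.2 s).1 T hT) x
  rw [← SetLike.mem_coe, ← Scheme.IdealSheafData.range_subschemeι] at h3
  exact h3

theorem finite_singι [IsProper f] (hf : Curv2.IsNodalFamily f) :
    IsFinite (singι f ≫ f) ∧ FormallyUnramified (singι f ≫ f) :=
  K811.SingSmooth.main f hf (K136.UnivOmega.isUniversal_dOmega f)

/-- A point of a closed subscheme finite over a field is closed. -/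
theorem isClosed_apply {k : Type u} [Field k] {X Z : Scheme.{u}} (q : X ⟶ Spec (CommRingCat.of k)) (j : Z ⟶ X)
    [IsClosedImmersion j] [LocallyQuasiFinite (j ≫ q)] (z : Z) : IsClosed ({j z} : Set X) := by
  have h1 := (j ≫ q).isDiscrete_preimage_singleton (default : Spec (CommRingCat.of k))
  have h2 : (j ≫ q) ⁻¹' {(default : Spec (CommRingCat.of k))} = Set.univ :=
    Set.eq_univ_of_forall fun x => Subsingleton.elim _ _
  rw [h2] at h1
  have h3 : DiscreteTopology Z := isDiscrete_univ_iff.mp h1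
  rw [← Set.image_singleton]
  exact j.isClosedEmbedding.isClosedMap _ (isClosed_discrete _)

theorem dim_le_one {X : Scheme.{u}} (hZ : ∀ Z ∈ irreducibleComponents (X : Type u),
    topologicalKrullDim Z = 1) (x : X) : topologicalKrullDim X ≤ 1 := by
  have : Nonempty X := ⟨x⟩
  exact (CurvesB.NodalFibreH.topologicalKrullDim_eq_one_of_components hZ).le

/-- The nodes of the fibres over fields are the points where the family is not smooth. -/
theorem isNode_iff [IsProper f] (hf : Curv2.IsNodalFamily f) {k : Type u} [Field k] {t : Spec (CommRingCat.of k) ⟶ T}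
    {X' : Scheme.{u}} {i : X' ⟶ C} {q : X' ⟶ Spec (CommRingCat.of k)} (sq : IsPullback i q f t) (x : X') :
    @Curv2.IsNode k _ X' ⟨q⟩ x ↔ i x ∈ Set.range (singι f) := by
  have hF : Flat f := hf.1
  have hP : LocallyOfFinitePresentation f := hf.2.1
  have hq : IsProper q := MorphismProperty.of_isPullback sq inferInstance
  have hq' : LocallyOfFinitePresentation q := MorphismProperty.of_isPullback sq inferInstance
  have hqn : Curv2.IsNodalFamily q := Groth.Agent.Sga7.H734.NodalBC.isNodalFamily_of_isPullback sq hf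
  obtain ⟨hA, hZ⟩ := (K901.SchPre.nodal_field_iff (K := k) q).2 hqn
  rw [range_singι hf, ← locusProp_smooth.baseChange f q i t sq]
  constructor
  · exact fun h => not_smoothAt_of_isNode q (dim_le_one hZ x) h
  · intro h
    obtain ⟨h1, -⟩ := finite_singι hqn
    obtain ⟨z, rfl⟩ := (range_singι hqn x).2 h
    exact (hA _ (isClosed_apply q (singι q) z)).resolve_left h

end Sing

section Count

theorem natCard_tensor (A B Ω : Type u) [CommRing A] [CommRing B] [Field Ω] [IsAlgClosed Ω] [Algebra A B] [Algebra A Ω]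
    [Module.Finite A B] [Algebra.FormallyUnramified A B] :
    Finite (PrimeSpectrum (Ω ⊗[A] B)) ∧ Nat.card (PrimeSpectrum (Ω ⊗[A] B)) = Module.finrank Ω (Ω ⊗[A] B) := by
  have h1 : _root_.IsReduced (Ω ⊗[A] B) := Algebra.FormallyUnramified.isReduced_of_field Ω (Ω ⊗[A] B)
  have h2 : IsArtinianRing (Ω ⊗[A] B) := IsArtinianRing.of_finite Ω _
  exact ⟨inferInstance, (K896.RatComp.finrank_eq_natCard Ω _).symm⟩

/-- Finite unramified schemes over an affine scheme: the number of points of the geometric fibres. -/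
theorem encard_fibre {A : Type u} [CommRing A] {Z : Scheme.{u}} (h : Z ⟶ Spec (CommRingCat.of A)) [IsFinite h]
    [FormallyUnramified h] : ∃ (B : Type u) (_ : AddCommGroup B) (_ : Module A B) (_ : Module.Finite A B),
      ∀ (Ω : Type u) [Field Ω] [IsAlgClosed Ω] (t : Spec (CommRingCat.of Ω) ⟶ Spec (CommRingCat.of A)) (P : Scheme.{u})
        (a : P ⟶ Z) (b : P ⟶ Spec (CommRingCat.of Ω)), IsPullback a b h t →
        ENat.card P = (Groth.Agent.Ega3A.FiberRank.fiberRank (R := A) B (t.base (closedPoint Ω)) : ℕ∞) := by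
  have hZ : IsAffine Z := isAffine_of_isAffineHom h
  let φ : CommRingCat.of A ⟶ Γ(Z, ⊤) := (Scheme.ΓSpecIso (CommRingCat.of A)).inv ≫ h.appTop
  have hφ : Z.isoSpec.hom ≫ Spec.map φ = h := by
    rw [Spec.map_comp, ← Category.assoc, Scheme.isoSpec_hom_naturality, Category.assoc]
    simp [Scheme.isoSpec]
  have hφ' : Spec.map φ = Z.isoSpec.inv ≫ h := by rw [Iso.eq_inv_comp, hφ]
  have h1 : IsFinite (Spec.map φ) := by rw [hφ']; infer_instance
  have h2 : FormallyUnramified (Spec.map φ) := by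
    rw [hφ']
    exact MorphismProperty.comp_mem (@FormallyUnramified) _ _ inferInstance ‹_›
  let _ : Algebra A Γ(Z, ⊤) := φ.hom.toAlgebra
  have h3 : Module.Finite A Γ(Z, ⊤) := (IsFinite.SpecMap_iff φ).1 h1
  have h4 : Algebra.FormallyUnramified A Γ(Z, ⊤) := (HasRingHomProperty.Spec_iff (P := @FormallyUnramified)).1 h2
  refine ⟨Γ(Z, ⊤), inferInstance, inferInstance, h3, fun Ω _ _ t P a b sq => ?_⟩
  let ψ := Spec.preimage t
  have hψ : Spec.map ψ = t := Spec.map_preimage t
  let _ : Algebra A Ω := ψ.hom.toAlgebra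
  obtain ⟨h5, h6⟩ := natCard_tensor A Γ(Z, ⊤) Ω
  have sq2 := isPullback_SpecMap_of_isPushout _ _ _ _ (CommRingCat.isPushout_tensorProduct A Ω Γ(Z, ⊤))
  have sq3 : IsPullback (a ≫ Z.isoSpec.hom) b (Spec.map φ) t :=
    IsPullback.of_iso sq (Iso.refl _) Z.isoSpec (Iso.refl _) (Iso.refl _) (by simp) (by simp) (by simp [hφ]) (by simp)
  have sq4 : IsPullback b (a ≫ Z.isoSpec.hom) (Spec.map ψ) (Spec.map φ) := by
    rw [hψ]
    exact sq3.flip
  let e := IsPullback.isoIsPullback _ _ sq4 sq2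
  have e' : P ≃ PrimeSpectrum (Ω ⊗[A] Γ(Z, ⊤)) := (Scheme.homeoOfIso e).toEquiv
  have h7 : Finite P := Finite.of_equiv _ e'.symm
  rw [ENat.card_eq_coe_natCard, Nat.card_congr e', h6]
  congr 1
  refine Groth.Agent.Ega3A.FiberRank.finrank_tensor_eq_fiberRank _ Ω _ ?_
  have h8 : t.base (closedPoint Ω) = PrimeSpectrum.comap ψ.hom (closedPoint Ω) := by
    rw [← hψ]
    rfl
  rw [h8]
  ext r
  rw [PrimeSpectrum.comap_asIdeal, Ideal.mem_comap, RingHom.mem_ker]
  change ψ.hom r ∈ maximalIdeal Ω ↔ _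
  rw [IsLocalRing.maximalIdeal_eq_bot, Ideal.mem_bot]
  rfl

theorem encard_node {A : Type u} [CommRing A] {C : Scheme.{u}} (f : C ⟶ Spec (CommRingCat.of A)) [IsProper f]
    (hf : Curv2.IsNodalFamily f) : ∃ (B : Type u) (_ : AddCommGroup B) (_ : Module A B) (_ : Module.Finite A B),
      ∀ (Ω : Type u) [Field Ω] [IsAlgClosed Ω] (t : Spec (CommRingCat.of Ω) ⟶ Spec (CommRingCat.of A)) (X' : Scheme.{u})
        (i : X' ⟶ C) (q : X' ⟶ Spec (CommRingCat.of Ω)), IsPullback i q f t →
        {x : ↥X' | @Curv2.IsNode Ω _ X' ⟨q⟩ x}.encard =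
          (Groth.Agent.Ega3A.FiberRank.fiberRank (R := A) B (t.base (closedPoint Ω)) : ℕ∞) := by
  obtain ⟨h1, h2⟩ := finite_singι hf
  obtain ⟨B, i1, i2, i3, H⟩ := encard_fibre (singι f ≫ f)
  refine ⟨B, i1, i2, i3, fun Ω _ _ t X' i q sq => ?_⟩
  have sq1 : IsPullback (pullback.fst (singι f) i) (pullback.snd (singι f) i) (singι f) i :=
    IsPullback.of_hasPullback _ _
  rw [← H Ω t _ _ _ (sq1.paste_vert sq)]
  have h3 : {x : ↥X' | @Curv2.IsNode Ω _ X' ⟨q⟩ x} = Set.range (pullback.snd (singι f) i) := by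
    rw [Scheme.Pullback.range_snd]
    ext x
    exact isNode_iff hf sq x
  rw [h3]
  have h4 : Function.Injective (pullback.snd (singι f) i) :=
    (pullback.snd (singι f) i).isEmbedding.injective
  rw [← ENat.card_coe_set_eq]
  exact (ENat.card_congr (Equiv.ofInjective _ h4)).symm

end Count

section Open

open K901.SchLoc K901.SchPre K901.EtSch K901.GeomFibAt K901.GeomLoc CurvSt

variable {C T : Scheme.{u}} (f : C ⟶ T) [Flat f] [IsProper f] [LocallyOfFinitePresentation f]

theorem exists_nhd (m : ℕ) (s : T) (hs : s ∈ NodSet f) :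
    ∃ V W : T.Opens, s ∈ V ∧ ∀ (Ω : Type u) [Field Ω] [IsAlgClosed Ω] (t : Spec (CommRingCat.of Ω) ⟶ T),
      t.base (closedPoint Ω) ∈ V → ∀ (X' : Scheme.{u}) (i : X' ⟶ C) (q : X' ⟶ Spec (CommRingCat.of Ω))
      (_ : IsPullback i q f t), {x : ↥X' | @Curv2.IsNode Ω _ X' ⟨q⟩ x}.encard < m ↔
        t.base (closedPoint Ω) ∈ W := by
  obtain ⟨V, hV, hsV, hVP⟩ := exists_isAffineOpen_mem_and_subset (x := s)
    (U := ⟨NodSet f, isOpen_nodSet f⟩) hs
  let u := hV.fromSpec
  have hru : Set.range u = V := hV.range_fromSpec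
  have hsq : IsPullback (pullback.fst f u) (pullback.snd f u) f u := IsPullback.of_hasPullback f u
  have h1 : Flat (pullback.snd f u) := MorphismProperty.of_isPullback hsq inferInstance
  have h2 : LocallyOfFinitePresentation (pullback.snd f u) := MorphismProperty.of_isPullback hsq inferInstance
  have h3 : IsProper (pullback.snd f u) := MorphismProperty.of_isPullback hsq inferInstance
  have hnod : Curv2.IsNodalFamily (pullback.snd f u) := by
    rw [isNodalFamily_iff]
    intro x
    rw [locusProp_nodal.baseChange f _ _ u hsq x]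
    have h4 : f (pullback.fst f u x) ∈ NodSet f := by
      apply hVP
      change f (pullback.fst f u x) ∈ (V : Set T)
      rw [← hru]
      refine ⟨pullback.snd f u x, ?_⟩
      rw [← Scheme.Hom.comp_apply, ← Scheme.Hom.comp_apply, pullback.condition]
    exact h4 _ rfl
  obtain ⟨B, _, _, _, H⟩ := encard_node (pullback.snd f u) hnod
  have ho : IsOpen {x : PrimeSpectrum Γ(T, V) | (Groth.Agent.Ega3A.FiberRank.fiberRank B x : ℕ∞) < m} := by
    cases m with
    | zero => simp
    | succ m =>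
      have h5 : {x : PrimeSpectrum Γ(T, V) | (Groth.Agent.Ega3A.FiberRank.fiberRank B x : ℕ∞) < ((m + 1 : ℕ) : ℕ∞)} =
          {x | Groth.Agent.Ega3A.FiberRank.fiberRank B x ≤ m} := by
        ext x
        simp only [Set.mem_ofPred_eq, Nat.cast_lt]
        omega
      rw [h5]
      exact Groth.Agent.Ega3A.FiberRank.isOpen_fiberRank_le m
  let A : (Spec Γ(T, V)).Opens := ⟨_, ho⟩
  refine ⟨V, u ''ᵁ A, hsV, fun Ω _ _ t ht X' i q hP => ?_⟩
  have hrt : Set.range t ⊆ Set.range u := by
    rintro _ ⟨z, rfl⟩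
    have hz : z = closedPoint Ω := Subsingleton.elim _ _
    rw [hru, hz]
    exact ht
  obtain ⟨t', i', hP', rfl, hi⟩ := K333.StableOpen.exists_factor hsq hrt hP
  rw [H Ω t' X' i' q hP']
  constructor
  · intro h
    exact ⟨t'.base (closedPoint Ω), h, rfl⟩
  · rintro ⟨z, hz, hzt⟩
    have h6 : z = t'.base (closedPoint Ω) := u.isOpenEmbedding.injective hzt
    rw [← h6]
    exact hz

/-- Nodal of pure dimension one, with fewer than `m` nodes. -/
abbrev CProp (n m : ℕ) : FibProp.{u} n := fun Ω _ _ X' q p =>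
  NodProp n Ω X' q p ∧ {x : ↥X' | @Curv2.IsNode Ω _ X' ⟨q⟩ x}.encard < m

variable {n : ℕ} (σ : Fin n → (T ⟶ C)) (hσ : ∀ j, σ j ≫ f = 𝟙 T)

theorem cprop_iff (m : ℕ) {Ω : Type u} [Field Ω] [IsAlgClosed Ω]
    {t : Spec (CommRingCat.of Ω) ⟶ T} {X' : Scheme.{u}} {i : X' ⟶ C} {q : X' ⟶ Spec (CommRingCat.of Ω)}
    (hP : IsPullback i q f t) : CProp n m Ω X' q (CurvSt.markedPt σ hσ hP) ↔
      t.base (closedPoint Ω) ∈ Loc (CProp n m) f σ hσ := by
  constructor
  · intro h
    have hN : t.base (closedPoint Ω) ∈ NodSet f := (nodProp_iff f hP _).1 h.1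
    obtain ⟨V, W, hV, H⟩ := exists_nhd f m _ hN
    have h1 := (H Ω t hV X' i q hP).1 h.2
    intro Ω' _ _ t' ht' X'' i' q' hP'
    refine ⟨(nodProp_iff f hP' _).2 (by rw [ht']; exact hN), (H Ω' t' ?_ X'' i' q' hP').2 ?_⟩
    · rw [ht']
      exact hV
    · rw [ht']
      exact h1
  · intro h
    exact h Ω t rfl X' i q hP

theorem isOpen_cprop (m : ℕ) : IsOpen (Loc (CProp n m) f σ hσ) := by
  rw [isOpen_iff_forall_mem_open]
  intro s hs
  obtain ⟨Ω, _, _, t, ht⟩ := exists_geomPt s
  have h := hs Ω t ht _ _ _ (IsPullback.of_hasPullback f t)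
  have hN : t.base (closedPoint Ω) ∈ NodSet f := (nodProp_iff f (IsPullback.of_hasPullback f t) _).1 h.1
  rw [ht] at hN
  obtain ⟨V, W, hV, H⟩ := exists_nhd f m _ hN
  have h1 := (H Ω t (by rw [ht]; exact hV) _ _ _ (IsPullback.of_hasPullback f t)).1 h.2
  rw [ht] at h1
  refine ⟨(V ⊓ W : T.Opens) ∩ NodSet f, ?_, (V ⊓ W).2.inter (isOpen_nodSet f), ⟨⟨hV, h1⟩, hN⟩⟩
  rintro s' ⟨⟨hV', hW'⟩, hN'⟩ Ω' _ _ t' ht' X' i' q' hP'
  refine ⟨(nodProp_iff f hP' _).2 (by rw [ht']; exact hN'), (H Ω' t' ?_ X' i' q' hP').2 ?_⟩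
  · rw [ht']
    exact hV'
  · rw [ht']
    exact hW'

end Open

theorem extDesc_cprop (n m : ℕ) : K901.EtSch.ExtDesc (CProp.{u} n m) :=
  K901.SchLoc.extDesc_of fun _ _ _ _ f σ hσ _ _ _ => ⟨_, fun _ _ _ _ _ _ _ hP => cprop_iff f σ hσ m hP⟩

end K333.NodeCount
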