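import Groth.Agent.CurvSt.K333.NodeCount
import Groth.Agent.CurvSt.K902.EtSchFin

/-!
# The locus of curves with at least `m` nodes is closed
-/

set_option autoImplicit false
universe u
open CategoryTheory CategoryTheory.Limits AlgebraicGeometry TopologicalSpace IsLocalRing AlgSp CurvSt

namespace K333.NodeCount

open Groth.Agent K901.Loci K901.SchLoc K901.SchPre K901.EtSch K901.GeomLoc K901.GeomFibAt

variable {S : Scheme.{u}} {n : ℕ}

theorem isOpen_locus (m : ℕ) {A : SpFamObj S n} (hA : IsCurveFam A) : IsOpen (locus (CProp n m) A) :=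
  isOpen_locus_of_etLocSch (CProp n m) hA (K902.EtSchFin.etLocSch hA) fun B h1 h2 h3 _ => by
    rw [locus_toSpFam]
    exact isOpen_cprop B.f B.sect B.sect_f m

/-- One realisation of one geometric fibre over `s` decides. -/
theorem mem_locus_of {m : ℕ} {A : SpFamObj S n} (hA : IsCurveFam A) {Ω : Type u} [Field Ω] [IsAlgClosed Ω]
    {t : Spec (CommRingCat.of Ω) ⟶ A.base.left} {X' : Scheme.{u}} {q : X' ⟶ Spec (CommRingCat.of Ω)}
    {i : (yon S).obj (A.ptOver (q ≫ t)) ⟶ A.X}
    (hP : IsPullback i ((yon S).map (A.fibHom t q)) A.f ((yon S).map (A.ptHom t)))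
    (h : CProp n m Ω X' q (A.spMarkedPt hP)) : t.base (closedPoint Ω) ∈ locus (CProp n m) A := by
  obtain ⟨f1, f2, f3, -⟩ := K901.SchFib.facts hA hP
  have f1' : Flat (schFam A hP).f := f1
  have f2' : IsProper (schFam A hP).f := f2
  have f3' : LocallyOfFinitePresentation (schFam A hP).f := f3
  have hid : IsPullback (𝟙 X') q q (𝟙 _) := IsPullback.of_horiz_isIso ⟨by simp⟩
  have h1 : (closedPoint Ω : Spec (CommRingCat.of Ω)) ∈ locus (CProp n m) ((toSpFam S n).obj (schFam A hP)) := by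
    rw [locus_toSpFam]
    have h2 := cprop_iff (schFam A hP).f (schFam A hP).sect (schFam A hP).sect_f m hid
    have h3 : CProp n m Ω X' q (CurvSt.markedPt (schFam A hP).sect (schFam A hP).sect_f hid) := ⟨h.1, h.2⟩
    exact h2.1 h3
  exact (mem_locus_iff_of_hom (extDesc_cprop n m) hA (schFamHom A hP) _).1 h1

theorem isClosed_nodes {A : SpFamObj S n} (hA : IsCurveFam A) (hN : GeomFib (NodProp n) A) (m : ℕ) :
    IsClosed {s : ↥A.base.left | ∀ (Ω : Type u) [Field Ω] [IsAlgClosed Ω]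
        (t : Spec (CommRingCat.of Ω) ⟶ A.base.left), t.base (closedPoint Ω) = s →
        ∀ (X' : Scheme.{u}) (q : X' ⟶ Spec (CommRingCat.of Ω))
          (i : (yon S).obj (A.ptOver (q ≫ t)) ⟶ A.X)
          (_ : IsPullback i ((yon S).map (A.fibHom t q)) A.f ((yon S).map (A.ptHom t))),
          (m : ℕ∞) ≤ {x : ↥X' | @Curv2.IsNode Ω _ X' ⟨q⟩ x}.encard} := by
  rw [← isOpen_compl_iff]
  convert isOpen_locus m hA using 1
  ext s
  rw [Set.mem_compl_iff]
  constructor
  · intro h
    by_contra hcon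
    apply h
    intro Ω _ _ t ht X' q i hP
    by_contra hlt
    apply hcon
    rw [← ht]
    exact mem_locus_of hA hP ⟨hN Ω t X' q i hP, not_le.1 hlt⟩
  · intro h h'
    obtain ⟨Ω, _, _, t, ht⟩ := exists_geomPt s
    obtain ⟨X', q, i, hP⟩ := K902.EtSchFin.hasSchFibres hA Ω t
    exact absurd (h' Ω t ht X' q i hP) (not_le.2 (h Ω t ht X' q i hP).2)

theorem geomFib_nodal {A : SpFamObj S n} {g : ℕ} (h : SpIsPrestablePtd A g) : GeomFib (NodProp n) A := by
  intro Ω _ _ t X' q i hP
  obtain ⟨h1, h2, h3, ⟨h4, h5⟩, -, -⟩ := h Ω t X' q i hP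
  have hN : IsNoetherian X' := CurvesB.NodalFibreH.isNoetherian_of_isProper Ω X' q
  exact ⟨h4, fun Z hZ => CurvesC.TailMain.pure_of_connected X' h3 Z hZ⟩

end K333.NodeCount
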