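import Groth.Agent.CurvSt.K333.Unpt
import Groth.Agent.CurvSt.K333.CtrFinal

/-!
# S17201: interfaces between the local existence of stable contractions and their descent

* `LocCtr f σ g t` : near `t`, for the flat topology, the family has a stable contraction;
* `DescStmt` : stable contractions descend;
* `main` : S17201 from `DescStmt` and local existence.
-/

set_option autoImplicit false
universe u
open CategoryTheory CategoryTheory.Limits AlgebraicGeometry TopologicalSpace Opposite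

namespace K333.PlanSt

open Groth.Agent CurvSt K333.Unpt

/-- Flat locally around `t` there is a stable contraction. -/
def LocCtr {C T : Scheme.{u}} (f : C ⟶ T) {n : ℕ} (σ : Fin n → (T ⟶ C)) (g : ℕ) (t : T) : Prop :=
  ∃ (T' C' C₁ : Scheme.{u}) (b : T' ⟶ T) (_ : Flat b) (_ : LocallyOfFinitePresentation b) (t' : T') (p : C' ⟶ C)
    (f' : C' ⟶ T') (_ : IsPullback p f' f b) (σ' : Fin n → (T' ⟶ C')) (γ : C' ⟶ C₁) (g₁ : C₁ ⟶ T')
    (h : ∀ i, (σ' i ≫ γ) ≫ g₁ = 𝟙 T'),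
    b t' = t ∧ (∀ i, σ' i ≫ p = b ≫ σ i) ∧ (∀ i, σ' i ≫ f' = 𝟙 T') ∧ γ ≫ g₁ = f' ∧ K899.Ctr.IsCtr γ ∧
      IsStableFam g₁ (fun i => σ' i ≫ γ) h g

/-- Existence of stable contractions, flat locally. -/
def LocStmt : Prop := ∀ {C T : Scheme.{u}} (f : C ⟶ T) (n g : ℕ) (σ : Fin n → (T ⟶ C))
    (hσ : ∀ i, σ i ≫ f = 𝟙 T) (_ : CurvSt.IsPrestablePtdFam f σ hσ g) (_ : 3 ≤ 2 * g + n) (t : T), LocCtr f σ g t

/-- Descent of stable contractions. -/
def DescStmt : Prop := ∀ {C T : Scheme.{u}} (f : C ⟶ T) (n g : ℕ) (σ : Fin n → (T ⟶ C))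
    (hσ : ∀ i, σ i ≫ f = 𝟙 T) (_ : CurvSt.IsPrestablePtdFam f σ hσ g) (_ : 3 ≤ 2 * g + n)
    (_ : ∀ t : T, LocCtr f σ g t),
    ∃ (C' : Scheme.{u}) (g' : C' ⟶ T) (c : C ⟶ C') (_ : c ≫ g' = f) (h : ∀ i, (σ i ≫ c) ≫ g' = 𝟙 T),
      CurvSt.IsStableFam g' (fun i => σ i ≫ c) h g ∧ K899.Ctr.IsCtr c

/-- S17201. -/
theorem main (h1 : LocStmt.{u}) (h2 : DescStmt.{u}) : Stmt201.{u} := by
  intro C T f n g σ hσ hpre hg _
  obtain ⟨C', g', c, hc, h, hst, hctr⟩ := h2 f n g σ hσ hpre hg (h1 f n g σ hσ hpre hg)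
  have i1 : IsProper f := hpre.2.1
  have i2 : Flat f := hpre.1
  have i3 : IsProper g' := hst.2.1
  have i4 : IsProper c := by
    have : IsProper (c ≫ g') := by rwa [hc]
    exact IsProper.of_comp c g'
  have i5 : Flat (c ≫ g') := by rwa [hc]
  exact ⟨C', g', c, hc, hst, hctr.final⟩

end K333.PlanSt
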