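import Groth.Agent.S15990
import Groth.Agent.Divis.EffCartier
import Groth.Agent.Divis.IdealComap
import Groth.Agent.Divis.CartierStalk
import Groth.Agent.Divis.CartierBasic
import Groth.Agent.Vanish.K911.PullIdeal
import Groth.Agent.Curves.K326.SemiStab
import Groth.Agent.CurvSt.K901.SchPre
import Groth.Agent.CurvSt.K898.SmoothRel
import Groth.Agent.Fga.HilbClosed
import Groth.Agent.Fcompl.H545.SysBasic
import Groth.Agent.Models.SmoothCase
import Groth.Agent.CurvSt.K901.DualAff

/-!
# The divisor of the sections of a pointed family of curves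
-/

set_option autoImplicit false
universe u
open CategoryTheory CategoryTheory.Limits AlgebraicGeometry TopologicalSpace Opposite IsLocalRing

namespace K333.SecDiv

open Groth.Agent Groth.Agent.Divis.CartierBasic K901.Loci

variable {C T : Scheme.{u}}

theorem isClosedImmersion_sect (f : C ⟶ T) [IsSeparated f] (σ : T ⟶ C) (hσ : σ ≫ f = 𝟙 T) : IsClosedImmersion σ := by
  have : IsClosedImmersion (σ ≫ f) := by rw [hσ]; infer_instance
  exact IsClosedImmersion.of_comp σ f

theorem support_ker (i : T ⟶ C) [IsClosedImmersion i] : (i.ker.support : Set C) = Set.range i := by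
  rw [Scheme.Hom.support_ker, IsClosed.closure_eq]
  exact i.isClosedEmbedding.isClosed_range

/-- A section through the locus where the morphism is smooth of relative dimension one is an effective Cartier
divisor. -/
theorem isEff_ker (f : C ⟶ T) [IsSeparated f] (σ : T ⟶ C) (hσ : σ ≫ f = 𝟙 T) (U : C.Opens) (hU : ∀ s, σ s ∈ U)
    [SmoothOfRelativeDimension 1 (U.ι ≫ f)] : BlowUp.IsEffCartierIdeal σ.ker := by
  have hcl := isClosedImmersion_sect f σ hσ
  refine Divis.EffCartier.isEff_of_forall_comap fun x => ?_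
  by_cases hx : x ∈ U
  · refine ⟨U, U.ι, inferInstance, ⟨⟨x, hx⟩, rfl⟩, ?_⟩
    let σ' : T ⟶ U := IsOpenImmersion.lift U.ι σ (by
      rw [Scheme.Opens.range_ι]
      rintro _ ⟨s, rfl⟩
      exact hU s)
    have h1 : σ' ≫ U.ι = σ := IsOpenImmersion.lift_fac _ _ _
    have h2 : IsClosedImmersion (σ' ≫ U.ι) := by rw [h1]; exact hcl
    have h3 := Fcompl.H545.SysBasic.comap_ker_comp σ' U.ι
    rw [h1] at h3
    rw [h3]
    exact (S15990.result (U.ι ≫ f) σ' (by rw [reassoc_of% h1, hσ])).1
  · let W : C.Opens := ⟨(Set.range σ)ᶜ, σ.isClosedEmbedding.isClosed_range.isOpen_compl⟩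
    have hxW : x ∈ W := fun ⟨s, hs⟩ => hx (hs ▸ hU s)
    refine ⟨W, W.ι, inferInstance, ⟨⟨x, hxW⟩, rfl⟩, ?_⟩
    have h1 : σ.ker.comap W.ι = ⊤ := by
      apply ext_stalkIdeal
      intro y
      rw [stalkIdeal_top, Divis.CartierStalk.stalkIdeal_comap]
      have h2 : W.ι y ∉ σ.ker.support := by
        intro h
        have h3 : W.ι y ∈ (σ.ker.support : Set C) := h
        rw [support_ker] at h3
        exact y.2 h3
      rw [(notMem_support_iff_stalkIdeal_eq_top _ _).1 h2, Ideal.map_top]
    rw [h1]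
    exact Divis.EffCartier.isEff_top

theorem comap_prod {X Y : Scheme.{u}} {ι : Type*} (s : Finset ι) (I : ι → Y.IdealSheafData) (f : X ⟶ Y) :
    (∏ i ∈ s, I i).comap f = ∏ i ∈ s, (I i).comap f := by
  classical
  induction s using Finset.induction_on with
  | empty =>
    rw [Finset.prod_empty, Finset.prod_empty]
    have h := Divis.IdealComap.comap_pow (⊤ : Y.IdealSheafData) f 0
    rwa [pow_zero, pow_zero] at h
  | insert a s ha ih => rw [Finset.prod_insert ha, Finset.prod_insert ha, Divis.IdealComap.comap_mul, ih]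

theorem stalkIdeal_prod {X : Scheme.{u}} {ι : Type*} (s : Finset ι) (D : ι → X.IdealSheafData) (x : X) :
    stalkIdeal (∏ i ∈ s, D i) x = ∏ i ∈ s, stalkIdeal (D i) x := by
  classical
  induction s using Finset.induction_on with
  | empty =>
    rw [Finset.prod_empty, Finset.prod_empty, Ideal.one_eq_top, Scheme.IdealSheafData.one_eq_top, stalkIdeal_top]
  | insert i s hi ih => rw [Finset.prod_insert hi, Finset.prod_insert hi, stalkIdeal_mul, ih]

theorem isEff_prod {X : Scheme.{u}} {ι : Type*} (s : Finset ι) (D : ι → X.IdealSheafData)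
    (h : ∀ i, BlowUp.IsEffCartierIdeal (D i)) : BlowUp.IsEffCartierIdeal (∏ i ∈ s, D i) := by
  classical
  induction s using Finset.induction_on with
  | empty =>
    rw [Finset.prod_empty, Scheme.IdealSheafData.one_eq_top]
    exact Divis.EffCartier.isEff_top
  | insert i s hi ih =>
    rw [Finset.prod_insert hi]
    exact Divis.EffCartier.isEff_mul (h i) ih

section Field

variable {Ω : Type u} [Field Ω] {X : Scheme.{u}} (q : X ⟶ Spec (CommRingCat.of Ω)) [IsSeparated q]

omit [IsSeparated q] in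
theorem stalkIdeal_ker_apply (x : Spec (CommRingCat.of Ω) ⟶ X) [IsClosedImmersion x] (z : Spec (CommRingCat.of Ω)) :
    stalkIdeal x.ker (x z) = maximalIdeal (X.presheaf.stalk (x z)) := by
  rw [← Divis.CartierStalk.ker_stalkMap]
  have hf : IsField ((Spec (CommRingCat.of Ω)).presheaf.stalk z) := by
    refine isField_stalk_of_closure_mem_irreducibleComponents _ _ ?_
    have h1 : closure {z} = (Set.univ : Set (Spec (CommRingCat.of Ω))) :=
      Set.eq_univ_of_forall fun z' => by
        have : z' = z := Subsingleton.elim _ _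
        rw [this]
        exact subset_closure rfl
    rw [h1, irreducibleComponents_eq_singleton]
    rfl
  have hb := IsLocalRing.isField_iff_maximalIdeal_eq.1 hf
  apply le_antisymm
  · exact IsLocalRing.le_maximalIdeal (RingHom.ker_ne_top _)
  · intro a ha
    have h2 : (x.stalkMap z).hom a ∈ maximalIdeal _ := by
      rw [mem_maximalIdeal, mem_nonunits_iff] at ha ⊢
      exact fun h => ha (isUnit_of_map_unit _ a h)
    rw [hb] at h2
    exact h2

include q in
theorem stalkIdeal_ker_eq (x : Spec (CommRingCat.of Ω) ⟶ X) (hx : x ≫ q = 𝟙 _) (z : Spec (CommRingCat.of Ω)) :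
    stalkIdeal x.ker (x z) = maximalIdeal (X.presheaf.stalk (x z)) :=
  have := isClosedImmersion_sect q x hx
  stalkIdeal_ker_apply x z

include q in
theorem stalkIdeal_ker_eq_top (x : Spec (CommRingCat.of Ω) ⟶ X) (hx : x ≫ q = 𝟙 _) (z : Spec (CommRingCat.of Ω))
    {y : X} (hy : y ≠ x z) : stalkIdeal x.ker y = ⊤ := by
  have hcl := isClosedImmersion_sect q x hx
  rw [← notMem_support_iff_stalkIdeal_eq_top]
  intro h
  have h3 : y ∈ (x.ker.support : Set X) := h
  rw [support_ker] at h3
  obtain ⟨z', rfl⟩ := h3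
  have hz : z' = z := Subsingleton.elim _ _
  exact hy (by rw [hz])

include q in
/-- The product of the ideals of distinct sections is the ideal of the set of their values. -/
theorem prod_ker_eq {n : ℕ} (x : Fin n → (Spec (CommRingCat.of Ω) ⟶ X)) (hx : ∀ j, x j ≫ q = 𝟙 _)
    (z : Spec (CommRingCat.of Ω)) (hinj : Function.Injective fun j => x j z)
    (hcl : ∀ j, IsClosed ({x j z} : Set X)) :
    ∏ j, (x j).ker = Scheme.IdealSheafData.vanishingIdeal (K326.PtsDiv.ptsCl hcl) := by
  apply ext_stalkIdeal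
  intro y
  rw [stalkIdeal_prod]
  by_cases hy : ∃ j, y = x j z
  · obtain ⟨j, rfl⟩ := hy
    rw [K326.PtsDiv.stalkIdeal_pts hcl j, Finset.prod_eq_single j]
    · exact stalkIdeal_ker_eq q (x j) (hx j) z
    · intro l _ hl
      rw [stalkIdeal_ker_eq_top q (x l) (hx l) z (fun h => hl (hinj h.symm)), Ideal.one_eq_top]
    · exact fun h => absurd (Finset.mem_univ j) h
  · have h1 : y ∉ (Scheme.IdealSheafData.vanishingIdeal (K326.PtsDiv.ptsCl hcl)).support := by
      intro h
      have h2 : y ∈ ((Scheme.IdealSheafData.vanishingIdeal (K326.PtsDiv.ptsCl hcl)).support : Set X) := h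
      rw [Scheme.IdealSheafData.coe_support_vanishingIdeal] at h2
      exact hy ((K326.PtsDiv.mem_ptsCl hcl y).1 h2)
    rw [(notMem_support_iff_stalkIdeal_eq_top _ _).1 h1, ← Ideal.one_eq_top]
    refine Finset.prod_eq_one fun l _ => ?_
    rw [stalkIdeal_ker_eq_top q (x l) (hx l) z (fun h => hy ⟨l, h⟩), Ideal.one_eq_top]

end Field

section Fam

variable {n : ℕ} (f : C ⟶ T) (σ : Fin n → (T ⟶ C)) (hσ : ∀ j, σ j ≫ f = 𝟙 T)

/-- The section induced on a geometric fibre. -/
noncomputable def fsec {Ω : Type u} [Field Ω] {t : Spec (CommRingCat.of Ω) ⟶ T} {X : Scheme.{u}} {i : X ⟶ C}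
    {q : X ⟶ Spec (CommRingCat.of Ω)} (hP : IsPullback i q f t) (j : Fin n) : Spec (CommRingCat.of Ω) ⟶ X :=
  hP.lift (t ≫ σ j) (𝟙 _) (by rw [Category.assoc, hσ, Category.comp_id, Category.id_comp])

theorem isPullback_fsec {Ω : Type u} [Field Ω] {t : Spec (CommRingCat.of Ω) ⟶ T} {X : Scheme.{u}} {i : X ⟶ C}
    {q : X ⟶ Spec (CommRingCat.of Ω)} (hP : IsPullback i q f t) (j : Fin n) :
    IsPullback t (fsec f σ hσ hP j) (σ j) i := by
  have h1 : IsPullback (fsec f σ hσ hP j ≫ q) t t (σ j ≫ f) := by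
    have h2 : fsec f σ hσ hP j ≫ q = 𝟙 _ := hP.lift_snd _ _ _
    rw [h2, hσ]
    exact IsPullback.of_horiz_isIso ⟨by simp⟩
  exact (IsPullback.of_right h1 (hP.lift_fst _ _ _) hP.flip).flip

/-- The pullback to a geometric fibre of the ideal of the sections. -/
theorem comap_prod_ker [IsSeparated f] {Ω : Type u} [Field Ω] {t : Spec (CommRingCat.of Ω) ⟶ T} {X : Scheme.{u}}
    {i : X ⟶ C} {q : X ⟶ Spec (CommRingCat.of Ω)} (hP : IsPullback i q f t)
    (hinj : Function.Injective (CurvSt.markedPt σ hσ hP))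
    (hcl : ∀ j, IsClosed ({CurvSt.markedPt σ hσ hP j} : Set X)) :
    (∏ j, (σ j).ker).comap i = Scheme.IdealSheafData.vanishingIdeal (K326.PtsDiv.ptsCl hcl) := by
  have hq : IsSeparated q := MorphismProperty.of_isPullback hP inferInstance
  rw [comap_prod]
  have h1 : ∀ j, ((σ j).ker).comap i = (fsec f σ hσ hP j).ker := fun j => by
    have h2 := isClosedImmersion_sect f (σ j) (hσ j)
    exact (Fga.HilbClosed.ker_of_isPullback (isPullback_fsec f σ hσ hP j)).symm
  rw [Finset.prod_congr rfl fun j _ => h1 j]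
  exact prod_ker_eq q (fsec f σ hσ hP) (fun j => hP.lift_snd _ _ _) (closedPoint Ω) hinj hcl

end Fam

end K333.SecDiv
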