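import Groth.Agent.S16731
import Groth.Agent.CurvSt.K901.SchPre
import Groth.Prelude.Def_StCurv2
import Groth.Prelude.Def_ModelsG
import Groth.Prelude.Def_ClSub2
import Groth.Prelude.Def_Coh

/-!
# Contraction of unpointed prestable families from the pointed statement
-/

set_option autoImplicit false
universe u
open CategoryTheory CategoryTheory.Limits AlgebraicGeometry TopologicalSpace Opposite

namespace K333.Unpt

open Groth.Agent CurvSt K901.SchPre K901.Loci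

/-- Statement S17201 (existence of the stable contraction of a prestable pointed family). -/
def Stmt201 : Prop := ∀ {C T : Scheme.{u}} (f : C ⟶ T) (n g : ℕ) (σ : Fin n → (T ⟶ C))
    (hσ : ∀ i, σ i ≫ f = 𝟙 T) (_ : CurvSt.IsPrestablePtdFam f σ hσ g) (_ : 3 ≤ 2 * g + n)
    [HasInjectiveResolutions C.Modules],
    ∃ (C' : Scheme.{u}) (g' : C' ⟶ T) (c : C ⟶ C') (hc : c ≫ g' = f),
      CurvSt.IsStableFam g' (fun i => σ i ≫ c) (fun i => (Category.assoc _ _ _).trans ((congrArg (fun x => σ i ≫ x) hc).trans (hσ i))) g ∧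
      IsIso (ClSub.unitToPush c) ∧ IsZero ((Coh.Rpush c 1).obj (Coh.structureModule C)) ∧
      ∀ (T₀ C₀ D₀ : Scheme.{u}) (b : T₀ ⟶ T) (g₀ : D₀ ⟶ T₀) (c₀ : C₀ ⟶ D₀) (pD : D₀ ⟶ C') (pC : C₀ ⟶ C)
        [HasInjectiveResolutions C₀.Modules],
        IsPullback pD g₀ g' b → IsPullback pC c₀ c pD →
          IsIso (ClSub.unitToPush c₀) ∧ IsZero ((Coh.Rpush c₀ 1).obj (Coh.structureModule C₀))

section Fam

variable {C T : Scheme.{u}} {f : C ⟶ T} {g : ℕ}

/-- An unpointed prestable family of genus `g` as a family with no marked points. -/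
theorem isPrestablePtdFam (h : IsPrestableFam f)
    (hgen : ∀ (Ω : Type u) [Field Ω] [IsAlgClosed Ω] (t : Spec (CommRingCat.of Ω) ⟶ T) (X : Scheme.{u}) (i : X ⟶ C)
      (q : X ⟶ Spec (CommRingCat.of Ω)), IsPullback i q f t → Models.curveGenus Ω X q = g)
    (σ : Fin 0 → (T ⟶ C)) (hσ : ∀ i, σ i ≫ f = 𝟙 T) : IsPrestablePtdFam f σ hσ g := by
  obtain ⟨hp, hn, hc⟩ := h
  refine ⟨hn.1, hp, hn.2.1, fun Ω _ _ t X i q hP => ?_⟩
  have hq : IsProper q := MorphismProperty.of_isPullback hP hp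
  have hfl : Flat f := hn.1
  have hlfp : LocallyOfFinitePresentation f := hn.2.1
  have h1 : ∀ x, NodalAt q x := (nodSet_iff f hP).2 fun x _ => (isNodalFamily_iff f).1 hn x
  exact (prestable_field_iff g q _ (fun i => i.elim0)).2
    ⟨h1, hc Ω t X i q hP, hgen Ω t X i q hP, fun i => i.elim0, fun i => i.elim0⟩

/-- A stable family without marked points in the unpointed form. -/
theorem of_isStableFam {σ : Fin 0 → (T ⟶ C)} {hσ : ∀ i, σ i ≫ f = 𝟙 T} (h : IsStableFam f σ hσ g) :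
    IsPrestableFam f ∧
      ∀ (Ω : Type u) [Field Ω] [IsAlgClosed Ω] (t : Spec (CommRingCat.of Ω) ⟶ T) (Y : Scheme.{u}) (i : Y ⟶ C)
          (q : Y ⟶ Spec (CommRingCat.of Ω)), IsPullback i q f t →
          Models.curveGenus Ω Y q = g ∧ ∀ (Z : Set ↥Y) (hZ : Z ∈ irreducibleComponents (↥Y : Type u)),
            ¬ Curv2.IsRationalTail Y Z hZ ∧ ¬ @Curv2.IsRationalBridge Ω _ Y ⟨q⟩ Z hZ := by
  obtain ⟨hfl, hp, hlfp, hf⟩ := h
  refine ⟨⟨hp, ?_, fun Ω _ _ t X i q hP => (hf Ω t X i q hP).2.1⟩, fun Ω _ _ t X i q hP => ?_⟩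
  · rw [isNodalFamily_iff]
    intro x
    obtain ⟨Ω, _, _, t, ht⟩ := K901.GeomLoc.exists_geomPt (f x)
    have hP := IsPullback.of_hasPullback f t
    have h1 := hf Ω t _ _ _ hP
    have hq : IsProper (pullback.snd f t) := h1.1
    have h2 := (prestable_field_iff g (pullback.snd f t) _ (fun i => i.elim0)).1
      ⟨h1.1, h1.2.1, h1.2.2.1, h1.2.2.2.1, h1.2.2.2.2.1, h1.2.2.2.2.2.1⟩
    have h3 := (nodSet_iff f hP).1 h2.1
    rw [ht] at h3
    exact h3 x rfl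
  · have h1 := hf Ω t X i q hP
    have hq : IsProper q := h1.1
    have hc : ConnectedSpace X := h1.2.1
    let _ : X.Over (Spec (CommRingCat.of Ω)) := ⟨q⟩
    have hq' : IsProper (X ↘ (Spec (CommRingCat.of Ω))) := hq
    have h2 : IsStablePtd Ω X q g (Fin.elim0 : Fin 0 → X) := by
      have : (Fin.elim0 : Fin 0 → X) = markedPt σ hσ hP := Subsingleton.elim _ _
      rw [this]
      exact h1
    have h3 := (Groth.Agent.S16731.result Ω X h1.2.2.1 h1.2.2.2.1.1 g).1 h2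
    exact ⟨h3.1, fun Z hZ => ⟨h3.2.2.1 Z hZ, h3.2.2.2 Z hZ⟩⟩

end Fam

/-- S17195 from S17201. -/
theorem main (h201 : Stmt201.{u}) {C T : Scheme.{u}} (f : C ⟶ T) (g : ℕ)
    (hpre : CurvSt.IsPrestableFam f)
    (hgen : ∀ (Ω : Type u) [Field Ω] [IsAlgClosed Ω] (t : Spec (CommRingCat.of Ω) ⟶ T) (X : Scheme.{u}) (i : X ⟶ C)
      (q : X ⟶ Spec (CommRingCat.of Ω)), IsPullback i q f t → Models.curveGenus Ω X q = g)
    (hg : 2 ≤ g) [HasInjectiveResolutions C.Modules] :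
    ∃ (C' : Scheme.{u}) (g' : C' ⟶ T) (c : C ⟶ C'), c ≫ g' = f ∧
      (CurvSt.IsPrestableFam g' ∧
        ∀ (Ω : Type u) [Field Ω] [IsAlgClosed Ω] (t : Spec (CommRingCat.of Ω) ⟶ T) (Y : Scheme.{u}) (i : Y ⟶ C')
          (q : Y ⟶ Spec (CommRingCat.of Ω)), IsPullback i q g' t →
          Models.curveGenus Ω Y q = g ∧ ∀ (Z : Set ↥Y) (hZ : Z ∈ irreducibleComponents (↥Y : Type u)),
            ¬ Curv2.IsRationalTail Y Z hZ ∧ ¬ @Curv2.IsRationalBridge Ω _ Y ⟨q⟩ Z hZ) ∧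
      IsIso (ClSub.unitToPush c) ∧ IsZero ((Coh.Rpush c 1).obj (Coh.structureModule C)) ∧
      ∀ (T₀ C₀ D₀ : Scheme.{u}) (b : T₀ ⟶ T) (g₀ : D₀ ⟶ T₀) (c₀ : C₀ ⟶ D₀) (pD : D₀ ⟶ C') (pC : C₀ ⟶ C)
        [HasInjectiveResolutions C₀.Modules],
        IsPullback pD g₀ g' b → IsPullback pC c₀ c pD →
          IsIso (ClSub.unitToPush c₀) ∧ IsZero ((Coh.Rpush c₀ 1).obj (Coh.structureModule C₀)) := by
  obtain ⟨C', g', c, hc, hst, h1, h2, h3⟩ := h201 f 0 g Fin.elim0 (fun i => i.elim0)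
    (isPrestablePtdFam hpre hgen _ _) (by omega)
  exact ⟨C', g', c, hc, of_isStableFam hst, h1, h2, h3⟩

end K333.Unpt
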